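import Cfsg.Agent.S0071
import Mathlib

/-!
Groups in which every proper subgroup that is not a `q`-group and has order divisible by `q` also
has order divisible by `p`, with `p` large compared with the `q`-part: basic reductions.
-/

set_option autoImplicit false

open Subgroup MulAction

namespace CfsgLib.MixedTwoPrime

variable {G : Type*} [Group G] [Finite G]

/-- A `p`-element normalising a subgroup of order at most `p + 1` either centralises it or permutes
its nontrivial elements transitively. -/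
theorem act_dichotomy {p : ℕ} [Fact p.Prime] {x : G} (hx : ∃ k, orderOf x = p ^ k) {U : Subgroup G}
    (hxU : x ∈ normalizer (U : Set G)) (hle : Nat.card U - 1 ≤ p) :
    (∀ u ∈ U, x * u = u * x) ∨ (Nat.card U = p + 1 ∧ ∀ u ∈ U, u ≠ 1 → x * u ≠ u * x ∧
      ∀ v ∈ U, v ≠ 1 → ∃ i : ℤ, x ^ i * u * (x ^ i)⁻¹ = v) := by
  set f := U.normalizerMonoidHom with hf
  set φ : MulAut U := f ⟨x, hxU⟩ with hφ
  have hpow : ∀ (i : ℤ) (u : U), (((φ ^ i) u : U) : G) = x ^ i * u * (x ^ i)⁻¹ := by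
    intro i u
    rw [hφ, ← map_zpow]
    rfl
  have hone : ∀ u : U, ((φ u : U) : G) = x * u * x⁻¹ := fun u => rfl
  have hP : IsPGroup p (zpowers φ) := by
    obtain ⟨k, hk⟩ := hx
    have h1 : Nat.card (zpowers φ) ∣ p ^ k := by
      rw [Nat.card_zpowers, ← hk]
      refine orderOf_dvd_of_pow_eq_one ?_
      have hx' : (⟨x, hxU⟩ : normalizer (U : Set G)) ^ orderOf x = 1 :=
        Subtype.ext (by simp [pow_orderOf_eq_one])
      rw [hφ, ← map_pow, hx', map_one]
    obtain ⟨j, -, hj⟩ := (Nat.dvd_prime_pow Fact.out).mp h1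
    exact IsPGroup.of_card hj
  by_cases hall : ∀ u ∈ U, x * u = u * x
  · exact Or.inl hall
  right
  have hkey : ∀ u : U, x * u ≠ u * x →
      Nat.card U = p + 1 ∧ orbit (zpowers φ) u = ({1}ᶜ : Set U) := by
    intro u hu
    obtain ⟨k, hk⟩ := hP.card_orbit u
    have hsub : orbit (zpowers φ) u ⊆ ({1}ᶜ : Set U) := by
      rintro v ⟨a, rfl⟩ h
      have h' : (a : MulAut U) u = 1 := h
      have : u = 1 := (a : MulAut U).injective (h'.trans (map_one _).symm)
      exact hu (by simp [this])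
    have hk0 : k ≠ 0 := by
      rintro rfl
      rw [pow_zero, Nat.card_eq_one_iff_unique] at hk
      have h1 : (⟨φ u, ⟨⟨φ, mem_zpowers φ⟩, rfl⟩⟩ : orbit (zpowers φ) u) = ⟨u, mem_orbit_self u⟩ :=
        @Subsingleton.elim _ hk.1 _ _
      have h2 : ((φ u : U) : G) = u := congrArg (fun t : orbit (zpowers φ) u => ((t : U) : G)) h1
      rw [hone, mul_inv_eq_iff_eq_mul] at h2
      exact hu h2
    have hpk : p ≤ p ^ k := Nat.le_self_pow hk0 p
    have hcompl : ({1}ᶜ : Set U).ncard = Nat.card U - 1 := by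
      rw [Set.ncard_compl, Set.ncard_singleton]
    have horb : (orbit (zpowers φ) u).ncard = p ^ k := by rw [← Nat.card_coe_set_eq, hk]
    have hle' : p ^ k ≤ Nat.card U - 1 := by
      rw [← horb, ← hcompl]
      exact Set.ncard_le_ncard hsub
    have hpos : 0 < Nat.card U := Nat.card_pos
    exact ⟨by omega, Set.eq_of_subset_of_ncard_le hsub (by rw [hcompl, horb]; omega)⟩
  push Not at hall
  obtain ⟨u₀, hu₀, hne₀⟩ := hall
  obtain ⟨hcard, horb₀⟩ := hkey ⟨u₀, hu₀⟩ hne₀
  refine ⟨hcard, fun u hu hu1 => ?_⟩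
  have hmem : ∀ v : U, v ≠ 1 → v ∈ orbit (zpowers φ) (⟨u₀, hu₀⟩ : U) := fun v hv => by
    rw [horb₀]; exact hv
  have hu1' : (⟨u, hu⟩ : U) ≠ 1 := fun h => hu1 (congrArg Subtype.val h)
  have horb : orbit (zpowers φ) (⟨u, hu⟩ : U) = ({1}ᶜ : Set U) := by
    rw [← horb₀]
    exact orbit_eq_iff.mpr (hmem _ hu1')
  refine ⟨fun hcomm => hne₀ ?_, fun v hv hv1 => ?_⟩
  · have h0 : (⟨u₀, hu₀⟩ : U) ∈ orbit (zpowers φ) (⟨u, hu⟩ : U) := by
      rw [horb]
      intro h
      have hu0 : u₀ = 1 := congrArg Subtype.val (Set.mem_singleton_iff.mp h)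
      exact hne₀ (by simp [hu0])
    obtain ⟨⟨a, ha⟩, he⟩ := h0
    obtain ⟨i, rfl⟩ := mem_zpowers_iff.mp ha
    have he' := congrArg Subtype.val he
    change (((φ ^ i) ⟨u, hu⟩ : U) : G) = u₀ at he'
    rw [hpow, (show Commute x u from hcomm).zpow_left i, mul_inv_cancel_right] at he'
    exact he' ▸ hcomm
  · have h0 : (⟨v, hv⟩ : U) ∈ orbit (zpowers φ) (⟨u, hu⟩ : U) := by
      rw [horb]
      intro h
      exact hv1 (congrArg Subtype.val (Set.mem_singleton_iff.mp h))
    obtain ⟨⟨a, ha⟩, he⟩ := h0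
    obtain ⟨i, rfl⟩ := mem_zpowers_iff.mp ha
    refine ⟨i, ?_⟩
    have he' := congrArg Subtype.val he
    change (((φ ^ i) ⟨u, hu⟩ : U) : G) = v at he'
    rwa [hpow] at he'

/-- Every prime dividing the order of `A ⊔ ⟨x⟩`, for normal `A`, divides `|A|` or the order of `x`. -/
theorem prime_dvd_sup {A : Subgroup G} [A.Normal] {x : G} {s : ℕ} (hs : s.Prime)
    (h : s ∣ Nat.card (A ⊔ zpowers x : Subgroup G)) : s ∣ Nat.card A ∨ s ∣ orderOf x := by
  have := Fact.mk hs
  obtain ⟨⟨y, hy⟩, hys⟩ := exists_prime_orderOf_dvd_card' (G := (A ⊔ zpowers x : Subgroup G)) s h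
  rw [Subgroup.orderOf_mk] at hys
  have h1 : y ^ orderOf x ∈ A := by
    have hy' : (QuotientGroup.mk' A) y ∈ ((A ⊔ zpowers x).map (QuotientGroup.mk' A)) :=
      mem_map_of_mem _ hy
    rw [Subgroup.map_sup, MonoidHom.map_zpowers, QuotientGroup.map_mk'_self, bot_sup_eq] at hy'
    have h2 : orderOf (QuotientGroup.mk' A y) ∣ orderOf x :=
      (orderOf_dvd_of_mem_zpowers hy').trans (orderOf_map_dvd _ x)
    rw [← QuotientGroup.eq_one_iff, QuotientGroup.mk_pow]
    exact orderOf_dvd_iff_pow_eq_one.mp h2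
  rcases hs.eq_one_or_self_of_dvd _ ((Nat.gcd_dvd_left s (orderOf x))) with hg | hg
  · left
    have h2 : orderOf (y ^ orderOf x) = s := by
      rw [orderOf_pow, hys, hg, Nat.div_one]
    have h3 := A.orderOf_dvd_natCard h1
    rwa [h2] at h3
  · exact Or.inr (hg ▸ Nat.gcd_dvd_right s (orderOf x))

/-- The standing hypotheses. -/
structure Mixed (G : Type*) [Group G] [Finite G] (p q : ℕ) : Prop where
  hp : p.Prime
  hq : q.Prime
  hpq : p ≠ q
  hp2 : p ≠ 2
  hpG : p ∣ Nat.card G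
  hqG : q ∣ Nat.card G
  mix : ∀ H : Subgroup G, H ≠ ⊤ → ¬ IsPGroup q H → q ∣ Nat.card H → p ∣ Nat.card H
  large : q ^ (Nat.card G).factorization q - 1 < p ∨
    (p = q ^ (Nat.card G).factorization q - 1 ∧ ∀ P : Sylow p G, IsMulCommutative P)

/-- All proper subgroups of order divisible by `q` are `{p, q}`-groups. -/
def Small (G : Type*) [Group G] (p q : ℕ) : Prop :=
  ∀ H : Subgroup G, H ≠ ⊤ → q ∣ Nat.card H → ∀ s : ℕ, s.Prime → s ∣ Nat.card H → s = p ∨ s = q

theorem small_of_inherit {p q : ℕ} (h : Mixed G p q)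
    (ih : ∀ H : Subgroup G, H ≠ ⊤ → Mixed H p q →
      ∀ s : ℕ, s.Prime → s ∣ Nat.card H → s = p ∨ s = q) : Small G p q := by
  intro H hH hqH s hs hsH
  by_cases hHq : IsPGroup q H
  · have := Fact.mk h.hq
    obtain ⟨k, hk⟩ := IsPGroup.iff_card.mp hHq
    exact Or.inr ((Nat.prime_dvd_prime_iff_eq hs h.hq).mp (hs.dvd_of_dvd_pow (hk ▸ hsH)))
  refine ih H hH ⟨h.hp, h.hq, h.hpq, h.hp2, h.mix H hH hHq hqH, hqH, ?_, ?_⟩ s hs hsH
  · intro K hK hKq hqK
    have hKtop : K.map H.subtype ≠ ⊤ := fun e =>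
      hH (top_le_iff.mp (e ▸ map_subtype_le K))
    have hcard := card_map_of_injective (K := K) H.subtype_injective
    have hKq' : ¬ IsPGroup q (K.map H.subtype : Subgroup G) := fun h' =>
      hKq (h'.of_equiv (K.equivMapOfInjective _ H.subtype_injective).symm)
    have := h.mix _ hKtop hKq' (by rwa [hcard])
    rwa [hcard] at this
  · have hfac : (Nat.card H).factorization q ≤ (Nat.card G).factorization q :=
      (Nat.factorization_le_iff_dvd Nat.card_pos.ne' Nat.card_pos.ne').mpr H.card_subgroup_dvd_card q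
    have hmono := Nat.pow_le_pow_right h.hq.pos hfac
    rcases h.large with hl | ⟨hl, hab⟩
    · exact Or.inl (by omega)
    rcases hfac.lt_or_eq with hlt | heq
    · have h1 := Nat.pow_lt_pow_right h.hq.one_lt hlt
      have h2 : 0 < q ^ (Nat.card H).factorization q := pow_pos h.hq.pos _
      exact Or.inl (by omega)
    · refine Or.inr ⟨by rw [heq]; exact hl, fun P => ?_⟩
      have := Fact.mk h.hp
      obtain ⟨P', hP'⟩ := (P.isPGroup'.map H.subtype).exists_le_sylow
      have := hab P'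
      constructor
      constructor
      intro a b
      have := congrArg Subtype.val (mul_comm' (⟨_, hP' (mem_map_of_mem _ a.2)⟩ : P')
        ⟨_, hP' (mem_map_of_mem _ b.2)⟩)
      exact Subtype.ext (Subtype.ext this)

variable {p q r : ℕ}

/-- With a third prime `r`, no nontrivial subgroup of prime power order at one of `q`, `r` is
normalised by an element of order the other. -/
theorem not_dvd_normalizer (h : Mixed G p q) (hsmall : Small G p q) (hr : r.Prime)
    (hrG : r ∣ Nat.card G) (hrp : r ≠ p) (hrq : r ≠ q) {a b : ℕ}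
    (hab : a = q ∧ b = r ∨ a = r ∧ b = q) {A : Subgroup G} (hA : A ≠ ⊥) (hAa : IsPGroup a A) :
    ¬ b ∣ Nat.card (normalizer (A : Set G)) := by
  intro hb
  have hap : a.Prime := by rcases hab with ⟨rfl, -⟩ | ⟨rfl, -⟩ <;> [exact h.hq; exact hr]
  have hbp : b.Prime := by rcases hab with ⟨-, rfl⟩ | ⟨-, rfl⟩ <;> [exact hr; exact h.hq]
  have := Fact.mk hap
  have := Fact.mk hbp
  obtain ⟨k, hk⟩ := IsPGroup.iff_card.mp hAa
  have hk0 : k ≠ 0 := by
    rintro rfl
    exact hA (eq_bot_of_card_eq A (by simpa using hk))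
  have contra : ∀ H : Subgroup G, H ≠ ⊤ → a ∣ Nat.card H → b ∣ Nat.card H → False := by
    intro H hH ha hb
    have hqr : q ∣ Nat.card H ∧ r ∣ Nat.card H := by
      rcases hab with ⟨rfl, rfl⟩ | ⟨rfl, rfl⟩ <;> [exact ⟨ha, hb⟩; exact ⟨hb, ha⟩]
    rcases hsmall H hH hqr.1 r hr hqr.2 with e | e
    · exact hrp e
    · exact hrq e
  have haA : a ∣ Nat.card A := hk ▸ dvd_pow_self a hk0
  by_cases hN : normalizer (A : Set G) = ⊤
  · have : A.Normal := normalizer_eq_top_iff.mp hN
    have hbG : b ∣ Nat.card G := by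
      rcases hab with ⟨-, rfl⟩ | ⟨-, rfl⟩ <;> [exact hrG; exact h.hqG]
    obtain ⟨x, hx⟩ := exists_prime_orderOf_dvd_card' (G := G) b hbG
    refine contra (A ⊔ zpowers x) ?_ (haA.trans (card_dvd_of_le le_sup_left)) ?_
    · intro htop
      have hp : p ∣ Nat.card (A ⊔ zpowers x : Subgroup G) := by
        rw [htop, card_top]; exact h.hpG
      rcases prime_dvd_sup h.hp hp with hd | hd
      · have e := (Nat.prime_dvd_prime_iff_eq h.hp hap).mp (h.hp.dvd_of_dvd_pow (hk ▸ hd))
        rcases hab with ⟨rfl, -⟩ | ⟨rfl, -⟩ <;> [exact h.hpq e; exact hrp e.symm]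
      · have e := (Nat.prime_dvd_prime_iff_eq h.hp hbp).mp (hx ▸ hd)
        rcases hab with ⟨-, rfl⟩ | ⟨-, rfl⟩ <;> [exact hrp e.symm; exact h.hpq e]
    · rw [← hx, ← Nat.card_zpowers]
      exact card_dvd_of_le le_sup_right
  · exact contra _ hN (haA.trans (card_dvd_of_le le_normalizer)) hb

/-- Frattini: a normal subgroup of order prime to `q` has order prime to `r`. -/
theorem not_dvd_card_normal (h : Mixed G p q) (hsmall : Small G p q) (hr : r.Prime)
    (hrG : r ∣ Nat.card G) (hrp : r ≠ p) (hrq : r ≠ q) (K : Subgroup G) [K.Normal]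
    (hK : ¬ q ∣ Nat.card K) : ¬ r ∣ Nat.card K := by
  intro hrK
  have := Fact.mk hr
  obtain ⟨R⟩ : Nonempty (Sylow r K) := inferInstance
  have hR : (R : Subgroup K).map K.subtype ≠ ⊥ := by
    rw [Ne, map_eq_bot_iff_of_injective _ K.subtype_injective]
    exact R.ne_bot_of_dvd_card hrK
  have hR' : IsPGroup r ((R : Subgroup K).map K.subtype : Subgroup G) := R.isPGroup'.map _
  have hq := not_dvd_normalizer h hsmall hr hrG hrp hrq (Or.inr ⟨rfl, rfl⟩) hR hR'
  have hsup := Sylow.normalizer_sup_eq_top R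
  set N := normalizer (((R : Subgroup K).map K.subtype : Subgroup G) : Set G) with hN
  have hidx : K.index ∣ Nat.card N := by
    have h1 : K.index = K.relIndex N := by
      rw [← relIndex_top_right, ← hsup]
      exact relIndex_sup_right (H := N) (K := K)
    rw [h1]
    exact relIndex_dvd_card K N
  rcases (Nat.Prime.dvd_mul h.hq).mp
    (K.card_mul_index ▸ h.hqG : q ∣ Nat.card K * K.index) with hd | hd
  · exact hK hd
  · exact hq (hd.trans hidx)

/-- In the exceptional configuration some `p`-element acts nontrivially on a `q`-subgroup. -/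
theorem exists_nontrivial_action (h : Mixed G p q) (hsmall : Small G p q) (hr : r.Prime)
    (hrG : r ∣ Nat.card G) (hrp : r ≠ p) (hrq : r ≠ q) :
    ∃ (U : Subgroup G) (x : G), IsPGroup q U ∧ (∃ k, orderOf x = p ^ k) ∧
      x ∈ normalizer (U : Set G) ∧ ∃ u ∈ U, x * u ≠ u * x := by
  by_contra hno
  push Not at hno
  have := Fact.mk h.hq
  obtain ⟨T⟩ : Nonempty (Sylow q G) := inferInstance
  have hfrob : ∀ Q : Subgroup G, Q ≤ (T : Subgroup G) → ∀ g ∈ normalizer (Q : Set G),
      Nat.Coprime (orderOf g) q → g ∈ centralizer (Q : Set G) := by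
    intro Q hQT g hg hcop
    by_cases hQ : Q = ⊥
    · subst hQ
      simp [mem_centralizer_iff]
    have hQq : IsPGroup q Q := T.isPGroup'.to_le hQT
    have hprimes : ∀ s : ℕ, s.Prime → s ∣ orderOf g → s = p := by
      intro s hs hsg
      by_contra hsp
      have hsN : s ∣ Nat.card (normalizer (Q : Set G)) :=
        hsg.trans ((normalizer (Q : Set G)).orderOf_dvd_natCard hg)
      have hsq : s ≠ q := fun e =>
        hs.ne_one (Nat.eq_one_of_dvd_coprimes hcop hsg (e ▸ dvd_rfl))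
      have hsG : s ∣ Nat.card G := hsg.trans (orderOf_dvd_natCard g)
      exact not_dvd_normalizer h hsmall hs hsG hsp hsq (Or.inl ⟨rfl, rfl⟩) hQ hQq hsN
    have hord : ∃ k, orderOf g = p ^ k :=
      ⟨_, Nat.eq_prime_pow_of_unique_prime_dvd (orderOf_pos g).ne' (fun {s} hs hd => hprimes s hs hd)⟩
    rw [mem_centralizer_iff]
    exact fun u hu => (hno Q g hQq hord hg u hu).symm
  obtain ⟨K, hKn, hK⟩ := (Cfsg.Agent.S0071.result T).mpr hfrob
  have := hKn
  have hidx : (T : Subgroup G).index = Nat.card K := hK.index_eq_card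
  have hrK : r ∣ Nat.card K := by
    obtain ⟨k, hk⟩ := IsPGroup.iff_card.mp T.isPGroup'
    rcases (Nat.Prime.dvd_mul hr).mp (((T : Subgroup G).card_mul_index).symm ▸ hrG :
        r ∣ Nat.card (T : Subgroup G) * (T : Subgroup G).index) with hd | hd
    · exact absurd ((Nat.prime_dvd_prime_iff_eq hr h.hq).mp (hr.dvd_of_dvd_pow (hk ▸ hd))) hrq
    · exact hidx ▸ hd
  exact not_dvd_card_normal h hsmall hr hrG hrp hrq K (hidx ▸ T.not_dvd_index) hrK

end CfsgLib.MixedTwoPrime
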