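import Cfsg.Agent.MixedTwoPrime.Exceptional
import Cfsg.Agent.S4018

/-!
The exceptional configuration does not occur.
-/

set_option autoImplicit false

open Subgroup MulAction

namespace CfsgLib.MixedTwoPrime

variable {G : Type*} [Group G]

/-- If `v` is an involution then `a * v a v` is fixed by `v` when `a` and `v a v` commute. -/
theorem fixed_mul_conj {v a : G} (hv : v * v = 1) (h : a * (v * a * v) = v * a * v * a) :
    v * (a * (v * a * v)) = a * (v * a * v) * v := by
  calc v * (a * (v * a * v)) = v * (v * a * v * a) := by rw [h]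
    _ = v * v * a * v * a := by group
    _ = a * v * a := by rw [hv, one_mul]
    _ = a * v * a * (v * v) := by rw [hv, mul_one]
    _ = a * (v * a * v) * v := by group

/-- An element of odd order equal to its inverse is trivial. -/
theorem eq_one_of_inv_eq {p : ℕ} (hp : p.Prime) (hp2 : p ≠ 2) {a : G}
    (ha : ∃ k, orderOf a = p ^ k) (h : a⁻¹ = a) : a = 1 := by
  obtain ⟨k, hk⟩ := ha
  have h2 : orderOf a ∣ 2 := orderOf_dvd_of_pow_eq_one (by
    rw [pow_two]; nth_rewrite 1 [← h]; exact inv_mul_cancel a)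
  rw [← orderOf_eq_one_iff]
  exact Nat.eq_one_of_dvd_coprimes
    ((Nat.coprime_primes hp Nat.prime_two).mpr hp2 |>.pow_left k) (hk ▸ dvd_rfl) h2

variable [Finite G]

/-- A `p`-element normalising a Sylow `p`-subgroup lies in it. -/
theorem mem_sylow_of_mem_normalizer {p : ℕ} [Fact p.Prime] (P : Sylow p G) {g : G}
    (hg : ∃ k, orderOf g = p ^ k) (hgN : g ∈ normalizer ((P : Subgroup G) : Set G)) : g ∈ P := by
  have hs : IsPGroup p (zpowers g ⊔ (P : Subgroup G) : Subgroup G) :=
    (isPGroup_zpowers hg).to_sup_of_normal_right' P.isPGroup' (zpowers_le.mpr hgN)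
  show g ∈ (P : Subgroup G)
  rw [← P.3 hs le_sup_right]
  exact mem_sup_left (mem_zpowers g)

/-- Membership in a conjugate of a Sylow subgroup. -/
theorem mem_smul_sylow {p : ℕ} (P : Sylow p G) (g v : G) :
    v ∈ (g • P : Sylow p G) ↔ g⁻¹ * v * g ∈ P := by
  constructor
  · rintro ⟨w, hw, rfl⟩
    show g⁻¹ * (g * w * g⁻¹) * g ∈ (P : Subgroup G)
    rw [show g⁻¹ * (g * w * g⁻¹) * g = w by group]
    exact hw
  · intro hv
    exact ⟨g⁻¹ * v * g, hv, by simp [mul_assoc]⟩

namespace Exceptional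

variable {p n : ℕ}

theorem orderOf_involution {t : G} (ht1 : (t : G) ≠ 1) (ht : t * t = 1) : ∃ k, orderOf t = 2 ^ k :=
  ⟨1, by rw [pow_one]; exact orderOf_eq_prime (by rw [pow_two, ht]) ht1⟩

theorem mem_two (h : Exceptional G p n) (T : Sylow 2 G) {u : G} (hu : u * u = 1)
    (hN : u ∈ normalizer ((T : Subgroup G) : Set G)) : u ∈ T := by
  by_cases hu1 : u = 1
  · exact hu1 ▸ (T : Subgroup G).one_mem
  · exact mem_sylow_of_mem_normalizer T (orderOf_involution hu1 hu) hN

theorem two_dvd_card {H : Subgroup G} {t : G} (ht1 : t ≠ 1) (ht : t * t = 1) (htH : t ∈ H) :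
    2 ∣ Nat.card H := by
  have ho : orderOf t = 2 := orderOf_eq_prime (by rw [pow_two, ht]) ht1
  exact ho ▸ H.orderOf_dvd_natCard htH

theorem sylow_ne (h : Exceptional G p n) (P : Sylow p G) :
    (P : Subgroup G) ≠ ⊥ ∧ (P : Subgroup G) ≠ ⊤ := by
  have := Fact.mk h.prime
  refine ⟨P.ne_bot_of_dvd_card h.dvd_card, fun e => ?_⟩
  exact h.noncomm fun a b => h.comm P P.isPGroup' a (e ▸ mem_top a) b (e ▸ mem_top b)

theorem two_ne (h : Exceptional G p n) (T : Sylow 2 G) :
    (T : Subgroup G) ≠ ⊥ ∧ (T : Subgroup G) ≠ ⊤ := by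
  obtain ⟨x, -, -, u, hu, hne⟩ := h.moves T
  refine ⟨fun e => hne ?_, fun e => h.noncomm fun a b => ?_⟩
  · have : u = 1 := mem_bot.mp (e ▸ hu)
    simp [this]
  · exact comm_of_sq (h.sq T) (show a ∈ (T : Subgroup G) from e ▸ mem_top a)
      (show b ∈ (T : Subgroup G) from e ▸ mem_top b)

theorem primes_normalizer (h : Exceptional G p n) (P : Sylow p G) {t : G} (ht1 : t ≠ 1)
    (ht : t * t = 1) (htP : t ∈ normalizer ((P : Subgroup G) : Set G)) :
    normalizer ((P : Subgroup G) : Set G) ≠ ⊤ ∧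
      ∀ s : ℕ, s.Prime → s ∣ Nat.card (normalizer ((P : Subgroup G) : Set G)) → s = p ∨ s = 2 := by
  have hne := h.normalizer_ne_top (h.sylow_ne P).1 (h.sylow_ne P).2
  exact ⟨hne, h.small _ hne (two_dvd_card ht1 ht htP)⟩

theorem card_dvd (h : Exceptional G p n) {H : Subgroup G} (hH : H ≠ ⊤) (h2 : 2 ∣ Nat.card H)
    (T : Sylow 2 G) (P : Sylow p G) : Nat.card H ∣ Nat.card T * Nat.card P := by
  have := Fact.mk h.prime
  refine (Nat.dvd_iff_prime_pow_dvd_dvd _ _).mpr fun s k hs hk => ?_
  rcases Nat.eq_zero_or_pos k with rfl | hk0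
  · simp
  have hsG : s ^ k ∣ Nat.card G := hk.trans H.card_subgroup_dvd_card
  rcases h.small H hH h2 s hs ((dvd_pow_self s hk0.ne').trans hk) with rfl | rfl
  · exact (P.pow_dvd_card_of_pow_dvd_card hsG).trans (dvd_mul_left _ _)
  · exact (T.pow_dvd_card_of_pow_dvd_card hsG).trans (dvd_mul_right _ _)

theorem card_mul_dvd (h : Exceptional G p n) {H : Subgroup G} (T : Sylow 2 G) (P : Sylow p G)
    (hT : (T : Subgroup G) ≤ H) (hP : (P : Subgroup G) ≤ H) :
    Nat.card T * Nat.card P ∣ Nat.card H := by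
  have := Fact.mk h.prime
  exact Nat.Coprime.mul_dvd_of_dvd_of_dvd
    (IsPGroup.coprime_card_of_ne 2 p h.ne_two.symm _ _ T.isPGroup' P.isPGroup')
    (card_dvd_of_le hT) (card_dvd_of_le hP)

theorem eq_of_contains (h : Exceptional G p n) {A B : Subgroup G} (hAB : A ≤ B) (hB : B ≠ ⊤)
    (T : Sylow 2 G) (P : Sylow p G) (hT : (T : Subgroup G) ≤ A) (hP : (P : Subgroup G) ≤ A) :
    A = B := by
  have h2 : 2 ∣ Nat.card B := by
    have : 2 ∣ Nat.card T := h.card_two T ▸ dvd_pow_self 2 (by have := h.two_le; omega)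
    exact this.trans (card_dvd_of_le (hT.trans hAB))
  exact Subgroup.eq_of_le_of_card_ge hAB (Nat.le_of_dvd Nat.card_pos
    ((h.card_dvd hB h2 T P).trans (h.card_mul_dvd T P hT hP)))

/-- The Sylow `p`-subgroup around an inverted `p`-element is unique and normalised by the involution. -/
theorem inverted (h : Exceptional G p n) {t z : G} (ht1 : t ≠ 1) (ht : t * t = 1) (hz1 : z ≠ 1)
    (hz : ∃ k, orderOf z = p ^ k) (htz : t * z * t = z⁻¹) (P : Sylow p G) (hzP : z ∈ P) :
    t ∈ normalizer ((P : Subgroup G) : Set G) ∧ ∀ Q : Sylow p G, z ∈ Q → Q = P := by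
  have := Fact.mk h.prime
  have hti : t⁻¹ = t := inv_eq_of_mul_eq_one_right ht
  set H := normalizer ((zpowers z : Subgroup G) : Set G) with hH
  have htH : t ∈ H := by
    have hmap : ∀ b ∈ zpowers z, t * b * t ∈ zpowers z := by
      rintro b ⟨i, rfl⟩
      refine ⟨-i, ?_⟩
      have e : t * z ^ i * t⁻¹ = (t * z * t⁻¹) ^ i := conj_zpow.symm
      rw [hti, htz] at e
      simp [e]
    rw [hH, Subgroup.mem_normalizer_iff]
    intro b
    rw [hti]
    refine ⟨fun hb => hmap b hb, fun hb => ?_⟩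
    have e : t * (t * b * t) * t = b := by
      calc t * (t * b * t) * t = (t * t) * b * (t * t) := by group
        _ = b := by rw [ht, one_mul, mul_one]
    exact e ▸ hmap _ hb
  have hHtop : H ≠ ⊤ := h.normalizer_ne_top (by simpa using hz1) fun e =>
    h.noncomm fun a b => by
      obtain ⟨i, rfl⟩ := mem_zpowers_iff.mp (e ▸ mem_top a : a ∈ zpowers z)
      obtain ⟨j, rfl⟩ := mem_zpowers_iff.mp (e ▸ mem_top b : b ∈ zpowers z)
      rw [← zpow_add, ← zpow_add, add_comm]
  have hle : ∀ Q : Sylow p G, z ∈ Q → (Q : Subgroup G) ≤ H := by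
    intro Q hQ a ha
    have hc : Commute a z := h.comm Q Q.isPGroup' a ha z hQ
    rw [hH, Subgroup.mem_normalizer_iff]
    intro b
    constructor
    · rintro ⟨i, rfl⟩
      exact ⟨i, (by rw [(hc.zpow_right i).eq, mul_inv_cancel_right] :
        a * z ^ i * a⁻¹ = z ^ i).symm⟩
    · rintro ⟨i, hi⟩
      refine ⟨i, ?_⟩
      have hi' : b = a⁻¹ * z ^ i * a := by
        rw [show z ^ i = a * b * a⁻¹ from hi]
        group
      rw [hi', mul_assoc, ← (hc.zpow_right i).eq, inv_mul_cancel_left]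
  have hN : H ≤ normalizer ((P : Subgroup G) : Set G) := by
    refine (h.dichotomy hHtop (two_dvd_card ht1 ht htH) P (hle P hzP)).resolve_right ?_
    rintro ⟨T, -, hT⟩
    have htT : t ∈ T := h.mem_two T ht (hT htH)
    have hzN : z ∈ normalizer ((T : Subgroup G) : Set G) := hT (le_normalizer (mem_zpowers z))
    have h1 : z * t * z⁻¹ * t ∈ (T : Subgroup G) :=
      mul_mem ((Subgroup.mem_normalizer_iff.mp hzN t).mp htT) htT
    have h2 : z * t * z⁻¹ * t = z * z := by
      have e : t * z⁻¹ * t = z := by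
        rw [← htz]
        calc t * (t * z * t) * t = (t * t) * z * (t * t) := by group
          _ = z := by rw [ht, one_mul, mul_one]
      calc z * t * z⁻¹ * t = z * (t * z⁻¹ * t) := by group
        _ = z * z := by rw [e]
    have h3 := h.sq T _ (h2 ▸ h1)
    obtain ⟨k, hk⟩ := hz
    have h4 : orderOf z ∣ 4 := orderOf_dvd_of_pow_eq_one (by rw [← h3]; simp only [pow_succ, pow_zero, one_mul, mul_assoc])
    refine hz1 (orderOf_eq_one_iff.mp (Nat.eq_one_of_dvd_coprimes ?_ dvd_rfl h4))
    rw [hk]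
    exact Nat.Coprime.pow_left k (Nat.Coprime.pow_right 2
      ((Nat.coprime_primes h.prime Nat.prime_two).mpr h.ne_two))
  refine ⟨hN htH, fun Q hQ => ?_⟩
  have hs : IsPGroup p ((Q : Subgroup G) ⊔ (P : Subgroup G) : Subgroup G) :=
    Q.isPGroup'.to_sup_of_normal_right' P.isPGroup' ((hle Q hQ).trans hN)
  exact Sylow.ext ((Q.3 hs le_sup_left).symm.trans (P.3 hs le_sup_right))

/-- An element of `T` and an element normalising `T` commute if the commutator lies in a `p`-group. -/
theorem commute_of_normalizes (h : Exceptional G p n) (T : Sylow 2 G) (P : Sylow p G) {a u : G}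
    (ha : a ∈ P) (hu : u ∈ T) (haT : a ∈ normalizer ((T : Subgroup G) : Set G))
    (huP : u ∈ normalizer ((P : Subgroup G) : Set G)) : a * u = u * a := by
  have := Fact.mk h.prime
  have h1 : a * u * a⁻¹ * u⁻¹ ∈ (T : Subgroup G) :=
    mul_mem ((Subgroup.mem_normalizer_iff.mp haT u).mp hu) (inv_mem hu)
  have h2 : a * (u * a⁻¹ * u⁻¹) ∈ (P : Subgroup G) :=
    mul_mem ha ((Subgroup.mem_normalizer_iff.mp huP _).mp (inv_mem ha))
  rw [show a * (u * a⁻¹ * u⁻¹) = a * u * a⁻¹ * u⁻¹ by group] at h2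
  have h3 : a * u * a⁻¹ * u⁻¹ ∈ ((T : Subgroup G) ⊓ (P : Subgroup G)) := ⟨h1, h2⟩
  rw [(IsPGroup.disjoint_of_ne 2 p h.ne_two.symm _ _ T.isPGroup' P.isPGroup').eq_bot, mem_bot] at h3
  rw [mul_inv_eq_one, mul_inv_eq_iff_eq_mul] at h3
  exact h3

section tight

variable (hcent : ∀ (T : Sylow 2 G) (t : G), t ∈ T → t ≠ 1 →
  centralizer ({t} : Set G) ≤ centralizer ((T : Subgroup G) : Set G))

include hcent

theorem mem_of_commute (h : Exceptional G p n) (T : Sylow 2 G) {t s : G} (htT : t ∈ T)
    (ht1 : t ≠ 1) (hs : s * s = 1) (hcomm : s * t = t * s) : s ∈ T :=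
  h.mem_two T hs (centralizer_le_normalizer _
    (hcent T t htT ht1 (Subgroup.mem_centralizer_singleton_iff.mpr hcomm)))

theorem product_pow (h : Exceptional G p n) {t s : G} (ht : t * t = 1) (hs : s * s = 1)
    (hne : s * t ≠ t * s) : ∃ k, orderOf (s * t) = p ^ k := by
  have hti : t⁻¹ = t := inv_eq_of_mul_eq_one_right ht
  have hsi : s⁻¹ = s := inv_eq_of_mul_eq_one_right hs
  set z := s * t with hz
  have htz : t * z * t⁻¹ = z⁻¹ := by
    rw [hz, mul_inv_rev, hsi, hti]
    calc t * (s * t) * t = t * s * (t * t) := by group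
      _ = t * s := by rw [ht, mul_one]
  have hsz : s * z * s⁻¹ = z⁻¹ := by
    rw [hz, mul_inv_rev, hsi, hti]
    calc s * (s * t) * s = (s * s) * t * s := by group
      _ = t * s := by rw [hs, one_mul]
  refine ⟨_, Nat.eq_prime_pow_of_unique_prime_dvd (orderOf_pos z).ne' fun {r} hr hd => ?_⟩
  by_contra hrp
  set y := z ^ (orderOf z / r) with hy
  have hyo : orderOf y = r := by
    rw [hy, orderOf_pow_of_dvd (Nat.div_pos (Nat.le_of_dvd (orderOf_pos z) hd) hr.pos).ne'
      (Nat.div_dvd_of_dvd hd), Nat.div_div_self hd (orderOf_pos z).ne']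
  have hty : t * y * t⁻¹ = y⁻¹ := by rw [hy, ← conj_pow, htz, inv_pow]
  have hsy : s * y * s⁻¹ = y⁻¹ := by rw [hy, ← conj_pow, hsz, inv_pow]
  have hy1 : y ≠ 1 := fun e => hr.ne_one (by rw [← hyo, e, orderOf_one])
  by_cases hr2 : r = 2
  · have hy2 : y * y = 1 := by rw [← pow_two, ← hr2, ← hyo, pow_orderOf_eq_one]
    have hyi : y⁻¹ = y := inv_eq_of_mul_eq_one_right hy2
    rw [hyi, mul_inv_eq_iff_eq_mul] at hty hsy
    obtain ⟨T, hyT⟩ := h.exists_sylow_mem hy2
    exact hne (comm_of_sq (h.sq T) (h.mem_of_commute hcent T hyT hy1 hs hsy)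
      (h.mem_of_commute hcent T hyT hy1 ht hty))
  have ht1 : t ≠ 1 := by
    intro e
    apply hne
    show s * t = t * s
    rw [e, mul_one, one_mul]
  have htN : t ∈ normalizer ((zpowers y : Subgroup G) : Set G) := by
    have hmap : ∀ b ∈ zpowers y, t * b * t⁻¹ ∈ zpowers y := by
      rintro b ⟨i, rfl⟩
      exact ⟨-i, by rw [← conj_zpow, hty]; simp⟩
    rw [Subgroup.mem_normalizer_iff]
    intro b
    refine ⟨fun hb => hmap b hb, fun hb => ?_⟩
    have e : t * (t * b * t⁻¹) * t⁻¹ = b := by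
      rw [hti]
      calc t * (t * b * t) * t = (t * t) * b * (t * t) := by group
        _ = b := by rw [ht, one_mul, mul_one]
    exact e ▸ hmap _ hb
  have hAtop : zpowers y ≠ ⊤ := fun e => h.noncomm fun a b => by
    obtain ⟨i, rfl⟩ := mem_zpowers_iff.mp (e ▸ mem_top a : a ∈ zpowers y)
    obtain ⟨j, rfl⟩ := mem_zpowers_iff.mp (e ▸ mem_top b : b ∈ zpowers y)
    rw [← zpow_add, ← zpow_add, add_comm]
  have hrN : r ∣ Nat.card (normalizer ((zpowers y : Subgroup G) : Set G)) :=
    hyo ▸ (normalizer ((zpowers y : Subgroup G) : Set G)).orderOf_dvd_natCard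
      (le_normalizer (mem_zpowers y))
  rcases h.small _ (h.normalizer_ne_top (by simpa using hy1) hAtop) (two_dvd_card ht1 ht htN)
      r hr hrN with e | e
  · exact hrp e
  · exact hr2 e

theorem exists_noncommuting (h : Exceptional G p n) (T : Sylow 2 G) {t : G} (htT : t ∈ T)
    (ht1 : t ≠ 1) : ∃ s : G, s * s = 1 ∧ s * t ≠ t * s := by
  by_contra hno
  push Not at hno
  have hsub : ∀ s : G, s * s = 1 → s ∈ T := fun s hs =>
    h.mem_of_commute hcent T htT ht1 hs (hno s hs)
  have hn : (T : Subgroup G).Normal := ⟨fun u hu g => hsub _ (by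
    calc g * u * g⁻¹ * (g * u * g⁻¹) = g * (u * u) * g⁻¹ := by group
      _ = 1 := by rw [h.sq T u hu, mul_one, mul_inv_cancel])⟩
  have := h.simple
  rcases hn.eq_bot_or_eq_top with e | e
  · exact (h.two_ne T).1 e
  · exact (h.two_ne T).2 e

theorem exists_inverting (h : Exceptional G p n) (T : Sylow 2 G) {t : G} (htT : t ∈ T)
    (ht1 : t ≠ 1) : ∃ P : Sylow p G, t ∈ normalizer ((P : Subgroup G) : Set G) := by
  have := Fact.mk h.prime
  obtain ⟨s, hs, hne⟩ := h.exists_noncommuting hcent T htT ht1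
  have ht := h.sq T t htT
  have hz := h.product_pow hcent ht hs hne
  obtain ⟨P, hP⟩ := (isPGroup_zpowers hz).exists_le_sylow
  refine ⟨P, (h.inverted ht1 ht (fun e => hne ?_) hz ?_ P (hP (mem_zpowers _))).1⟩
  · have hst : s = t := by
      rw [← inv_eq_of_mul_eq_one_right e]
      exact (inv_eq_of_mul_eq_one_right hs).symm
    rw [hst]
  · rw [mul_inv_rev, inv_eq_of_mul_eq_one_right ht, inv_eq_of_mul_eq_one_right hs]
    calc t * (s * t) * t = t * s * (t * t) := by group
      _ = t * s := by rw [ht, mul_one]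

/-- No nontrivial `p`-element centralises an involution: impossible. -/
theorem false_of_free (h : Exceptional G p n)
    (hfree : ∀ t x : G, t ≠ 1 → t * t = 1 → (∃ k, orderOf x = p ^ k) → t * x = x * t → x = 1) :
    False := by
  classical
  have := Fact.mk h.prime
  obtain ⟨T⟩ : Nonempty (Sylow 2 G) := inferInstance
  obtain ⟨⟨t, htT⟩, ht1'⟩ := Subgroup.ne_bot_iff_exists_ne_one.mp (h.two_ne T).1
  have ht1 : t ≠ 1 := fun e => ht1' (Subtype.ext e)
  have ht := h.sq T t htT
  have hti : t⁻¹ = t := inv_eq_of_mul_eq_one_right ht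
  have hC : centralizer ({t} : Set G) = (T : Subgroup G) := by
    refine le_antisymm ?_ (h.mem_centralizer_of_mem T htT)
    obtain ⟨W, hWp, hWC, -, -, hle⟩ := h.involution_centralizer ht1 T htT
    have hW : W = ⊥ := (Subgroup.eq_bot_iff_forall W).mpr fun w hw =>
      hfree t w ht1 ht (exists_orderOf_pow hWp hw)
        (Subgroup.mem_centralizer_singleton_iff.mp (hWC hw)).symm
    rwa [hW, bot_sup_eq] at hle
  -- the number of involutions is divisible by `p`
  set I : Set G := {s | s ≠ 1 ∧ s * s = 1} with hI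
  have hIcard : I.ncard = (centralizer ({t} : Set G)).index := by
    have horb : MulAction.orbit (ConjAct G) t = I := by
      ext s
      rw [MulAction.mem_orbit_iff]
      constructor
      · rintro ⟨g, rfl⟩
        rw [hI, Set.mem_ofPred_eq, ConjAct.smul_def]
        refine ⟨fun e => ht1 (conj_eq_one_iff.mp e), ?_⟩
        calc _ = ConjAct.ofConjAct g * (t * t) * (ConjAct.ofConjAct g)⁻¹ := by group
          _ = 1 := by rw [ht, mul_one, mul_inv_cancel]
      · rintro ⟨hs1, hs⟩
        obtain ⟨g, hg⟩ := h.conj_inv t s ht hs ht1 hs1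
        exact ⟨ConjAct.toConjAct g, by rw [ConjAct.smul_def, ConjAct.ofConjAct_toConjAct, hg]⟩
    have hstab : (MulAction.stabilizer (ConjAct G) t).index = (centralizer ({t} : Set G)).index := by
      rw [ConjAct.stabilizer_eq_centralizer]
      rfl
    rw [← horb, ← hstab, MulAction.index_stabilizer]
  have hpI : p ∣ I.ncard := by
    rw [hIcard, hC]
    rcases (Nat.Prime.dvd_mul h.prime).mp ((T : Subgroup G).card_mul_index ▸ h.dvd_card :
        p ∣ Nat.card (T : Subgroup G) * (T : Subgroup G).index) with hd | hd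
    · exact absurd ((Nat.prime_dvd_prime_iff_eq h.prime Nat.prime_two).mp
        (h.prime.dvd_of_dvd_pow (h.card_two T ▸ hd))) h.ne_two
    · exact hd
  have hsplit : I.ncard = p + {s | s * s = 1 ∧ s * t ≠ t * s}.ncard := by
    have hTcard : ({s | s ∈ T ∧ s ≠ 1} : Set G).ncard = p := by
      have e : ({s | s ∈ T ∧ s ≠ 1} : Set G) = ((T : Subgroup G) : Set G) \ {1} := rfl
      rw [e, Set.ncard_sdiff_singleton_of_mem (T : Subgroup G).one_mem, ← Nat.card_coe_set_eq]
      have := h.card_two T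
      have := h.pow_eq
      show Nat.card T - 1 = p
      omega
    rw [← hTcard, ← Set.ncard_union_eq]
    · congr 1
      ext s
      simp only [hI, Set.mem_ofPred_eq, Set.mem_union]
      constructor
      · rintro ⟨hs1, hs⟩
        by_cases hc : s * t = t * s
        · exact Or.inl ⟨h.mem_of_commute hcent T htT ht1 hs hc, hs1⟩
        · exact Or.inr ⟨hs, hc⟩
      · rintro (⟨hsT, hs1⟩ | ⟨hs, hc⟩)
        · exact ⟨hs1, h.sq T s hsT⟩
        · exact ⟨by rintro rfl; simp at hc, hs⟩
    · exact Set.disjoint_left.mpr fun s hs1 hs2 => hs2.2 (comm_of_sq (h.sq T) hs1.1 htT)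
  set Z : Set G := {z | z ≠ 1 ∧ (∃ k, orderOf z = p ^ k) ∧ t * z * t = z⁻¹} with hZ
  have hbij : {s | s * s = 1 ∧ s * t ≠ t * s}.ncard = Z.ncard := by
    refine Set.ncard_congr (fun s _ => s * t) ?_ (fun a b _ _ e => mul_right_cancel e) ?_
    · rintro s ⟨hs, hne⟩
      refine ⟨fun e => hne ?_, h.product_pow hcent ht hs hne, ?_⟩
      · have : s = t := by rw [eq_inv_of_mul_eq_one_left e, hti]
        rw [this]
      · rw [mul_inv_rev, hti, inv_eq_of_mul_eq_one_right hs]
        calc t * (s * t) * t = t * s * (t * t) := by group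
          _ = t * s := by rw [ht, mul_one]
    · rintro z ⟨hz1, hz, htz⟩
      refine ⟨z * t, ⟨?_, fun e => hz1 (eq_one_of_inv_eq h.prime h.ne_two hz ?_)⟩, ?_⟩
      · calc z * t * (z * t) = z * (t * z * t) := by group
          _ = 1 := by rw [htz, mul_inv_cancel]
      · rw [← htz]
        calc t * z * t = t * (z * t) := by group
          _ = z * t * t := e.symm
          _ = z := by rw [mul_assoc, ht, mul_one]
      · rw [mul_assoc, ht, mul_one]
  -- facts on an involution normalising a Sylow `p`-subgroup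
  have hinv : ∀ (P : Sylow p G) (v : G), v ≠ 1 → v * v = 1 →
      v ∈ normalizer ((P : Subgroup G) : Set G) → ∀ a ∈ P, v * a * v = a⁻¹ := by
    intro P v hv1 hv hvP a ha
    have hva : v * a * v ∈ (P : Subgroup G) := by
      have := (Subgroup.mem_normalizer_iff.mp hvP a).mp ha
      rwa [inv_eq_of_mul_eq_one_right hv] at this
    exact (inv_eq_of_mul_eq_one_right (hfree v _ hv1 hv
      (exists_orderOf_pow P.isPGroup' (mul_mem ha hva))
      (fixed_mul_conj hv (h.comm P P.isPGroup' _ ha _ hva)))).symm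
  obtain ⟨P₀, hP₀⟩ := h.exists_inverting hcent T htT ht1
  set O := MulAction.orbit (T : Subgroup G) P₀ with hO
  have hOiff : ∀ P : Sylow p G, P ∈ O ↔ t ∈ normalizer ((P : Subgroup G) : Set G) := by
    intro P
    refine Iff.trans ?_ Sylow.smul_eq_iff_mem_normalizer
    have ht0 : t • P₀ = P₀ := Sylow.smul_eq_iff_mem_normalizer.mpr hP₀
    constructor
    · rintro ⟨τ, rfl⟩
      show t • ((τ : G) • P₀) = (τ : G) • P₀
      rw [smul_smul, comm_of_sq (h.sq T) htT τ.2, ← smul_smul, ht0]
    · intro htP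
      obtain ⟨g, rfl⟩ := MulAction.exists_smul_eq G P₀ P
      set b := g⁻¹ * t * g with hb
      have hb1 : b ≠ 1 := fun e => ht1 (by
        have := congrArg (fun x => g * x * g⁻¹) e
        simpa [hb, mul_assoc] using this)
      have hb2 : b * b = 1 := by
        calc b * b = g⁻¹ * (t * t) * g := by rw [hb]; group
          _ = 1 := by rw [ht, mul_one, inv_mul_cancel]
      have hbP : b ∈ normalizer ((P₀ : Subgroup G) : Set G) := by
        refine Sylow.smul_eq_iff_mem_normalizer.mp ?_
        rw [hb, ← smul_smul, ← smul_smul, htP, inv_smul_smul]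
      have hbi : b⁻¹ = b := inv_eq_of_mul_eq_one_right hb2
      by_cases hcb : b * t = t * b
      · -- the product centralises `P₀`, hence is trivial
        have hbt : b * t = 1 := by
          by_contra hne1
          obtain ⟨⟨a, ha⟩, ha1⟩ := Subgroup.ne_bot_iff_exists_ne_one.mp (h.sylow_ne P₀).1
          refine ha1 (Subtype.ext (hfree (b * t) a hne1 ?_ (exists_orderOf_pow P₀.isPGroup' ha) ?_))
          · calc b * t * (b * t) = b * (t * b) * t := by group
              _ = b * b * (t * t) := by rw [← hcb]; group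
              _ = 1 := by rw [hb2, ht, one_mul]
          · have e1 : t * a * t = a⁻¹ := hinv P₀ t ht1 ht hP₀ a ha
            have e2 : b * a⁻¹ * b = a := by
              rw [hinv P₀ b hb1 hb2 hbP a⁻¹ (inv_mem ha), inv_inv]
            have e3 : b * t * a * (b * t)⁻¹ = a := by
              rw [mul_inv_rev, hti, hbi]
              calc b * t * a * (t * b) = b * (t * a * t) * b := by group
                _ = a := by rw [e1, e2]
            exact mul_inv_eq_iff_eq_mul.mp e3
        have hgt : g ∈ (T : Subgroup G) := by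
          rw [← hC, Subgroup.mem_centralizer_singleton_iff]
          have : b = t := by rw [eq_inv_of_mul_eq_one_left hbt, hti]
          rw [hb] at this
          calc g * t = g * (g⁻¹ * t * g) := by rw [this]
            _ = t * g := by group
        exact ⟨⟨g, hgt⟩, rfl⟩
      · obtain ⟨k, hk⟩ := h.product_pow hcent ht hb2 hcb
        have hzP : b * t ∈ P₀ :=
          mem_sylow_of_mem_normalizer P₀ ⟨k, hk⟩ (mul_mem hbP hP₀)
        obtain ⟨c, hc⟩ : Odd (p ^ k) := (h.prime.odd_of_ne_two h.ne_two).pow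
        set y := (b * t) ^ (c + 1) with hy
        have hyP : y ∈ P₀ := (P₀ : Subgroup G).pow_mem hzP _
        have hyy : y * y = b * t := by
          rw [hy, ← pow_add]
          conv_rhs => rw [← pow_one (b * t)]
          refine pow_eq_pow_iff_modEq.mpr ?_
          rw [hk, Nat.ModEq, show c + 1 + (c + 1) = (2 * c + 1) + 1 by omega, hc,
            Nat.add_mod_left]
        have hyt : y * t * y⁻¹ = b := by
          have e := hinv P₀ t ht1 ht hP₀ y hyP
          calc y * t * y⁻¹ = y * t * (t * y * t) := by rw [e]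
            _ = y * (t * t) * y * t := by group
            _ = b * t * t := by rw [ht, mul_one, hyy]
            _ = b := by rw [mul_assoc, ht, mul_one]
        have hgy : g * y ∈ (T : Subgroup G) := by
          rw [← hC, Subgroup.mem_centralizer_singleton_iff]
          calc g * y * t = g * (y * t * y⁻¹) * y := by group
            _ = t * (g * y) := by rw [hyt, hb]; group
        refine ⟨⟨g * y, hgy⟩, ?_⟩
        show (g * y) • P₀ = g • P₀
        rw [← smul_smul, Sylow.smul_eq_iff_mem_normalizer.mpr (le_normalizer hyP)]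
  have hk : ∃ j, O.ncard = 2 ^ j := by
    obtain ⟨j, hj⟩ := T.isPGroup'.card_orbit P₀
    exact ⟨j, by rw [hO, ← Nat.card_coe_set_eq]; exact hj⟩
  have hZcard : Z.ncard = O.ncard * (Nat.card (P₀ : Subgroup G) - 1) := by
    have hset : Z = ⋃ P ∈ O, (((P : Sylow p G) : Subgroup G) : Set G) \ {1} := by
      ext z
      simp only [Set.mem_iUnion, Set.mem_sdiff, Set.mem_singleton_iff, SetLike.mem_coe, exists_prop]
      constructor
      · rintro ⟨hz1, hz, htz⟩
        obtain ⟨P, hP⟩ := (isPGroup_zpowers hz).exists_le_sylow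
        exact ⟨P, (hOiff P).mpr (h.inverted ht1 ht hz1 hz htz P (hP (mem_zpowers z))).1,
          hP (mem_zpowers z), hz1⟩
      · rintro ⟨P, hPO, hzP, hz1⟩
        exact ⟨hz1, exists_orderOf_pow P.isPGroup' hzP, hinv P t ht1 ht ((hOiff P).mp hPO) z hzP⟩
    have hdisj : O.PairwiseDisjoint fun P => (((P : Sylow p G) : Subgroup G) : Set G) \ {1} := by
      intro P hP Q hQ hne
      refine Set.disjoint_left.mpr fun z hz hz' => hne ?_
      obtain ⟨hzP, hz1⟩ := hz
      exact (h.inverted ht1 ht hz1 (exists_orderOf_pow P.isPGroup' hzP)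
        (hinv P t ht1 ht ((hOiff P).mp hP) z hzP) Q hz'.1).2 P hzP
    rw [hset, Set.Finite.ncard_biUnion O.toFinite (fun _ _ => Set.toFinite _) hdisj]
    rw [finsum_mem_eq_finite_toFinset_sum _ O.toFinite]
    rw [Finset.sum_const_nat (m := Nat.card (P₀ : Subgroup G) - 1)]
    · rw [Set.ncard_eq_toFinset_card O O.toFinite]
    · intro P _
      rw [Set.ncard_sdiff_singleton_of_mem (one_mem _), ← Nat.card_coe_set_eq]
      obtain ⟨g, rfl⟩ := MulAction.exists_smul_eq G P₀ P
      congr 1
      exact (Nat.card_congr (P₀.equiv (g • P₀)).toEquiv).symm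
  obtain ⟨j, hj⟩ := hk
  rw [hsplit, hbij, hZcard, hj] at hpI
  have hpI' : p ∣ 2 ^ j * (Nat.card (P₀ : Subgroup G) - 1) := (Nat.dvd_add_right dvd_rfl).mp hpI
  rcases (Nat.Prime.dvd_mul h.prime).mp hpI' with hd | hd
  · exact h.ne_two ((Nat.prime_dvd_prime_iff_eq h.prime Nat.prime_two).mp
      (h.prime.dvd_of_dvd_pow hd))
  · have h1 : p ∣ Nat.card (P₀ : Subgroup G) := P₀.dvd_card_of_dvd_card h.dvd_card
    have h2 : Nat.card (P₀ : Subgroup G) = (Nat.card (P₀ : Subgroup G) - 1) + 1 := by
      have : 0 < Nat.card (P₀ : Subgroup G) := Nat.card_pos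
      omega
    exact h.prime.not_dvd_one ((Nat.dvd_add_right hd).mp (h2 ▸ h1))

end tight

end Exceptional

end CfsgLib.MixedTwoPrime
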