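import Cfsg.Agent.MixedTwoPrime.Basic
import Cfsg.Agent.Constrained.HallHigman
import Cfsg.Agent.Chars.Apps.Burnside

/-!
The exceptional configuration: `p = 2 ^ n - 1`, Sylow 2-subgroups elementary abelian of order `2 ^ n`.
-/

set_option autoImplicit false

open Subgroup MulAction

namespace CfsgLib.MixedTwoPrime

variable {G : Type*} [Group G]

/-- A subgroup normalises the image of each of its normal subgroups. -/
theorem le_normalizer_map_subtype {H : Subgroup G} (K : Subgroup H) [K.Normal] :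
    H ≤ normalizer ((K.map H.subtype : Subgroup G) : Set G) := by
  refine le_trans ?_ (Subgroup.le_normalizer_map H.subtype)
  rw [normalizer_eq_top, ← MonoidHom.range_eq_map, range_subtype]

variable [Finite G]

/-- The exceptional configuration. -/
structure Exceptional (G : Type*) [Group G] [Finite G] (p n : ℕ) : Prop where
  prime : p.Prime
  ne_two : p ≠ 2
  two_le : 2 ≤ n
  pow_eq : p + 1 = 2 ^ n
  card_two : ∀ T : Sylow 2 G, Nat.card T = 2 ^ n
  dvd_card : p ∣ Nat.card G
  small : Small G p 2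
  third : ∃ r : ℕ, r.Prime ∧ r ∣ Nat.card G ∧ r ≠ p ∧ r ≠ 2
  comm : ∀ P : Subgroup G, IsPGroup p P → ∀ a ∈ P, ∀ b ∈ P, a * b = b * a
  sq : ∀ T : Sylow 2 G, ∀ u ∈ T, u * u = 1
  conj_inv : ∀ s t : G, s * s = 1 → t * t = 1 → s ≠ 1 → t ≠ 1 → ∃ g : G, g * s * g⁻¹ = t
  moves : ∀ T : Sylow 2 G, ∃ x : G, (∃ k, orderOf x = p ^ k) ∧
    x ∈ normalizer ((T : Subgroup G) : Set G) ∧ ∃ u ∈ T, x * u ≠ u * x
  simple : IsSimpleGroup G
  noncomm : ¬ ∀ a b : G, a * b = b * a

theorem isPGroup_zpowers {p : ℕ} [Fact p.Prime] {x : G} (hx : ∃ k, orderOf x = p ^ k) :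
    IsPGroup p (zpowers x) := by
  obtain ⟨k, hk⟩ := hx
  exact IsPGroup.of_card ((Nat.card_zpowers x).trans hk)

theorem exists_orderOf_pow {p : ℕ} [Fact p.Prime] {P : Subgroup G} (hP : IsPGroup p P) {x : G}
    (hx : x ∈ P) : ∃ k, orderOf x = p ^ k := by
  obtain ⟨k, hk⟩ := IsPGroup.iff_orderOf.mp hP ⟨x, hx⟩
  exact ⟨k, by rwa [Subgroup.orderOf_mk] at hk⟩

/-- Elementary abelian: a subgroup of exponent two is commutative. -/
theorem comm_of_sq {T : Subgroup G} (h : ∀ u ∈ T, u * u = 1) {a b : G} (ha : a ∈ T) (hb : b ∈ T) :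
    a * b = b * a := by
  have hi : ∀ u ∈ T, u⁻¹ = u := fun u hu => inv_eq_of_mul_eq_one_right (h u hu)
  calc a * b = (a * b)⁻¹ := (hi _ (mul_mem ha hb)).symm
    _ = b * a := by rw [mul_inv_rev, hi a ha, hi b hb]

/-- Building the exceptional configuration from the hypotheses. -/
theorem exceptional_of_mixed {p q r : ℕ} (h : Mixed G p q) (hsmall : Small G p q) (hr : r.Prime)
    (hrG : r ∣ Nat.card G) (hrp : r ≠ p) (hrq : r ≠ q) :
    ∃ n, q = 2 ∧ Exceptional G p n := by
  obtain ⟨U, x, hU, hx, hxU, u, hu, hne⟩ := exists_nontrivial_action h hsmall hr hrG hrp hrq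
  have := Fact.mk h.hp
  have := Fact.mk h.hq
  obtain ⟨T₀, hUT⟩ := hU.exists_le_sylow
  set n := (Nat.card G).factorization q with hn
  have hT₀ : Nat.card T₀ = q ^ n := T₀.card_eq_multiplicity
  have hUle : Nat.card U ≤ q ^ n := hT₀ ▸ Nat.le_of_dvd Nat.card_pos (card_dvd_of_le hUT)
  have hlarge : q ^ n - 1 < p ∨ (p = q ^ n - 1 ∧ ∀ P : Sylow p G, IsMulCommutative P) := h.large
  have hnp : q ^ n - 1 ≤ p := by rcases hlarge with hl | ⟨hl, -⟩ <;> omega
  rcases act_dichotomy hx hxU (by omega) with hc | ⟨hcard, -⟩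
  · exact absurd (hc u hu) hne
  have hpn : p + 1 = q ^ n := by omega
  have hq2 : q = 2 := by
    obtain ⟨m, hm⟩ := IsPGroup.iff_card.mp hU
    have hev : 2 ∣ q ^ m := by
      obtain ⟨c, hc⟩ := h.hp.odd_of_ne_two h.hp2
      exact ⟨c + 1, by omega⟩
    exact ((Nat.prime_dvd_prime_iff_eq Nat.prime_two h.hq).mp
      (Nat.prime_two.dvd_of_dvd_pow hev)).symm
  subst hq2
  have hab : ∀ P : Sylow p G, IsMulCommutative P := by
    rcases hlarge with hl | ⟨-, hab⟩
    · omega
    · exact hab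
  have hUT' : U = (T₀ : Subgroup G) := Subgroup.eq_of_le_of_card_ge hUT (by omega)
  subst hUT'
  have hmoves : ∀ T : Sylow 2 G, ∃ y : G, (∃ k, orderOf y = p ^ k) ∧
      y ∈ normalizer ((T : Subgroup G) : Set G) ∧ ∃ v ∈ T, y * v ≠ v * y := by
    intro T
    obtain ⟨g, hg⟩ := MulAction.exists_smul_eq G T₀ T
    have hmem : ∀ v : G, v ∈ T ↔ g⁻¹ * v * g ∈ T₀ := fun v => by
      rw [← hg]
      constructor
      · rintro ⟨w, hw, rfl⟩
        simpa [mul_assoc] using hw
      · intro hv
        exact ⟨g⁻¹ * v * g, hv, by simp [mul_assoc]⟩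
    refine ⟨g * x * g⁻¹, ?_, ?_, g * u * g⁻¹, ?_, ?_⟩
    · obtain ⟨k, hk⟩ := hx
      exact ⟨k, by rw [← MulAut.conj_apply, MulEquiv.orderOf_eq, hk]⟩
    · rw [Subgroup.mem_normalizer_iff]
      intro v
      show v ∈ T ↔ g * x * g⁻¹ * v * (g * x * g⁻¹)⁻¹ ∈ T
      rw [hmem, hmem]
      refine (Subgroup.mem_normalizer_iff.mp hxU (g⁻¹ * v * g)).trans ?_
      rw [show x * (g⁻¹ * v * g) * x⁻¹ = g⁻¹ * (g * x * g⁻¹ * v * (g * x * g⁻¹)⁻¹) * g by group]
      rfl
    · rw [hmem]
      show g⁻¹ * (g * u * g⁻¹) * g ∈ (T₀ : Subgroup G)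
      simpa [mul_assoc] using hu
    · intro e
      apply hne
      have := congrArg (fun z => g⁻¹ * z * g) e
      simpa [mul_assoc] using this
  have htrans : ∀ T : Sylow 2 G, ∀ a ∈ T, a ≠ 1 → ∀ b ∈ T, b ≠ 1 →
      ∃ g : G, g * a * g⁻¹ = b := by
    intro T a ha ha1 b hb hb1
    obtain ⟨y, hy, hyT, v, hv, hyv⟩ := hmoves T
    have hT : Nat.card T = 2 ^ n := T.card_eq_multiplicity
    rcases act_dichotomy hy hyT (by omega) with hc | ⟨-, hc⟩
    · exact absurd (hc v hv) hyv
    · obtain ⟨i, hi⟩ := (hc a ha ha1).2 b hb hb1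
      exact ⟨y ^ i, hi⟩
  have hsq : ∀ T : Sylow 2 G, ∀ a ∈ T, a * a = 1 := by
    intro T a ha
    by_cases ha1 : a = 1
    · simp [ha1]
    obtain ⟨k, hk⟩ := exists_orderOf_pow T.isPGroup' ha
    have hk0 : k ≠ 0 := by
      rintro rfl
      exact ha1 (orderOf_eq_one_iff.mp (by simpa using hk))
    have hb : orderOf (a ^ 2 ^ (k - 1)) = 2 := by
      rw [orderOf_pow_of_dvd (by positivity) (hk ▸ pow_dvd_pow 2 (Nat.sub_le k 1)), hk,
        Nat.pow_div (Nat.sub_le k 1) two_pos]
      rw [show k - (k - 1) = 1 by omega, pow_one]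
    obtain ⟨g, hg⟩ := htrans T _ (pow_mem ha _) (fun e => by rw [e, orderOf_one] at hb; omega) a ha ha1
    have hord : orderOf a = 2 := by
      rw [← hg, ← MulAut.conj_apply, MulEquiv.orderOf_eq, hb]
    rw [← pow_two, ← hord, pow_orderOf_eq_one]
  have hconj : ∀ s t : G, s * s = 1 → t * t = 1 → s ≠ 1 → t ≠ 1 → ∃ g : G, g * s * g⁻¹ = t := by
    intro s t hs ht hs1 ht1
    have hmem : ∀ s : G, s * s = 1 → ∃ T : Sylow 2 G, s ∈ T := by
      intro s hs
      have : IsPGroup 2 (zpowers s) := by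
        obtain ⟨k, -, hk⟩ := (Nat.dvd_prime_pow Nat.prime_two (m := 1)).mp
          (orderOf_dvd_of_pow_eq_one (show s ^ 2 ^ 1 = 1 by rw [pow_one, pow_two, hs]))
        exact isPGroup_zpowers ⟨k, hk⟩
      obtain ⟨T, hT⟩ := this.exists_le_sylow
      exact ⟨T, hT (mem_zpowers s)⟩
    obtain ⟨S, hS⟩ := hmem s hs
    obtain ⟨T, hT⟩ := hmem t ht
    obtain ⟨g, hg⟩ := MulAction.exists_smul_eq G S T
    have hgs : g * s * g⁻¹ ∈ T := by rw [← hg]; exact ⟨s, hS, rfl⟩
    obtain ⟨g', hg'⟩ := htrans T _ hgs (fun e => hs1 (conj_eq_one_iff.mp e)) t hT ht1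
    exact ⟨g' * g, by rw [← hg']; group⟩
  have hcomm : ∀ P : Subgroup G, IsPGroup p P → ∀ a ∈ P, ∀ b ∈ P, a * b = b * a := by
    intro P hP a ha b hb
    obtain ⟨S, hS⟩ := hP.exists_le_sylow
    have := hab S
    exact congrArg Subtype.val (mul_comm' (⟨a, hS ha⟩ : S) ⟨b, hS hb⟩)
  -- simplicity
  have hodd : ∀ K : Subgroup G, K.Normal → K ≠ ⊤ → ¬ 2 ∣ Nat.card K := by
    intro K hK hKtop h2
    obtain ⟨⟨s, hsK⟩, hs⟩ := exists_prime_orderOf_dvd_card' (G := K) 2 h2
    rw [Subgroup.orderOf_mk] at hs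
    have hs2 : s * s = 1 := by rw [← pow_two, ← hs, pow_orderOf_eq_one]
    have hs1 : s ≠ 1 := fun e => by simp [e] at hs
    have hTK : (T₀ : Subgroup G) ≤ K := by
      intro a ha
      by_cases ha1 : a = 1
      · exact ha1 ▸ K.one_mem
      · obtain ⟨g, hg⟩ := hconj s a hs2 (hsq T₀ a ha) hs1 ha1
        exact hg ▸ hK.conj_mem s hsK g
    have hsup := Sylow.normalizer_sup_eq_top' T₀ hTK
    have h1 : K.index ∣ Nat.card (normalizer ((T₀ : Subgroup G) : Set G)) := by
      have e : K.index = K.relIndex (normalizer ((T₀ : Subgroup G) : Set G)) := by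
        rw [← relIndex_top_right, ← hsup]
        exact relIndex_sup_right _ _
      rw [e]
      exact relIndex_dvd_card _ _
    have hT1 : (T₀ : Subgroup G) ≠ ⊥ := fun e => by
      have := mem_bot.mp (e ▸ hu : u ∈ (⊥ : Subgroup G))
      exact hne (by simp [this])
    rcases (Nat.Prime.dvd_mul hr).mp (K.card_mul_index ▸ hrG : r ∣ Nat.card K * K.index) with hd | hd
    · rcases hsmall K hKtop h2 r hr hd with e | e
      · exact hrp e
      · exact hrq e
    · exact not_dvd_normalizer h hsmall hr hrG hrp hrq (Or.inl ⟨rfl, rfl⟩) hT1 T₀.isPGroup'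
        (hd.trans h1)
  have hpgroup : ∀ K : Subgroup G, K.Normal → K ≠ ⊤ → IsPGroup p K := by
    intro K hK hKtop
    refine IsPGroup.of_card (n := (Nat.card K).primeFactorsList.length) ?_
    refine Nat.eq_prime_pow_of_unique_prime_dvd Nat.card_pos.ne' (fun {s} hs hd => ?_)
    by_contra hsp
    have hs2 : s ≠ 2 := fun e => hodd K hK hKtop (e ▸ hd)
    exact not_dvd_card_normal h hsmall hs (hd.trans K.card_subgroup_dvd_card) hsp hs2 K
      (hodd K hK hKtop) hd
  have hT₀' : 2 ∣ Nat.card G := h.hqG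
  have hnonab : ¬ ∀ a b : G, a * b = b * a := fun hall => hne (hall x u)
  have hsimple : IsSimpleGroup G := by
    have : Nontrivial G := ⟨⟨x * u, u * x, hne⟩⟩
    constructor
    intro K hK
    by_contra hcon
    push Not at hcon
    obtain ⟨hKbot, hKtop⟩ := hcon
    have hKp := hpgroup K hK hKtop
    obtain ⟨P, hKP⟩ := hKp.exists_le_sylow
    by_cases hCtop : centralizer (K : Set G) = ⊤
    · obtain ⟨⟨z, hzK⟩, hz1'⟩ := Subgroup.ne_bot_iff_exists_ne_one.mp hKbot
      have hz1 : z ≠ 1 := fun e => hz1' (Subtype.ext e)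
      have hzc : ∀ g : G, g * z = z * g := fun g =>
        (Subgroup.mem_centralizer_iff.mp (hCtop ▸ mem_top g) z hzK).symm
      letI : CommGroup (P : Subgroup G) :=
        { mul_comm := fun a b => Subtype.ext (hcomm P P.isPGroup' _ a.2 _ b.2) }
      set f := MonoidHom.transfer (MonoidHom.id (P : Subgroup G)) with hf
      have key : ∀ (k : ℕ) (g₀ : G), g₀⁻¹ * z ^ k * g₀ ∈ (P : Subgroup G) →
          g₀⁻¹ * z ^ k * g₀ = z ^ k := fun k g₀ _ => by
        rw [mul_assoc, ← ((show Commute g₀ z from hzc g₀).pow_right k).eq, inv_mul_cancel_left]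
      have hfz : f z ≠ 1 := by
        intro e
        rw [hf, MonoidHom.transfer_eq_pow _ z key, MonoidHom.id_apply] at e
        have h1 : z ^ (P : Subgroup G).index = 1 := congrArg Subtype.val e
        obtain ⟨j, hj⟩ := exists_orderOf_pow P.isPGroup' (hKP hzK)
        refine hz1 (orderOf_eq_one_iff.mp ?_)
        rw [hj]
        exact Nat.eq_one_of_dvd_coprimes
          (((Fact.out : p.Prime).coprime_iff_not_dvd.mpr P.not_dvd_index).pow_left j) dvd_rfl
          (hj ▸ orderOf_dvd_of_pow_eq_one h1)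
      obtain ⟨t, ht⟩ := exists_prime_orderOf_dvd_card' (G := G) 2 hT₀'
      have hft : t ∈ f.ker := by
        rw [MonoidHom.mem_ker, ← orderOf_eq_one_iff]
        obtain ⟨j, hj⟩ := IsPGroup.iff_orderOf.mp P.isPGroup' (f t)
        refine Nat.eq_one_of_dvd_coprimes ?_ (dvd_refl _) (ht ▸ orderOf_map_dvd f t)
        rw [hj]
        exact ((Nat.coprime_primes h.hp Nat.prime_two).mpr h.hp2).pow_left j
      refine hodd f.ker inferInstance (fun e => hfz (f.mem_ker.mp (e ▸ mem_top z))) ?_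
      rw [← ht]
      exact f.ker.orderOf_dvd_natCard hft
    · have hCp := hpgroup _ Subgroup.normal_centralizer hCtop
      have hPC : (P : Subgroup G) ≤ centralizer (K : Set G) := fun a ha =>
        Subgroup.mem_centralizer_iff.mpr fun b hb => hcomm P P.isPGroup' b (hKP hb) a ha
      have hPeq : centralizer (K : Set G) = P := P.3 hCp hPC
      have hPn : (P : Subgroup G).Normal := hPeq ▸ Subgroup.normal_centralizer
      obtain ⟨j, hj⟩ := IsPGroup.iff_card.mp P.isPGroup'
      have hcop : (Nat.card (P : Subgroup G)).Coprime (P : Subgroup G).index := by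
        rw [hj]
        exact ((Fact.out : p.Prime).coprime_iff_not_dvd.mpr P.not_dvd_index).pow_left j
      obtain ⟨L, hL⟩ := Subgroup.exists_right_complement'_of_coprime hcop
      have hidx : (P : Subgroup G).index = Nat.card L := hL.symm.index_eq_card
      have hdiv : ∀ s : ℕ, s.Prime → s ∣ Nat.card G → s ≠ p → s ∣ Nat.card L := by
        intro s hs hsG hsp
        rw [← hidx]
        rcases (Nat.Prime.dvd_mul hs).mp ((P : Subgroup G).card_mul_index ▸ hsG :
          s ∣ Nat.card (P : Subgroup G) * (P : Subgroup G).index) with hd | hd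
        · exact absurd ((Nat.prime_dvd_prime_iff_eq hs h.hp).mp (hs.dvd_of_dvd_pow (hj ▸ hd))) hsp
        · exact hd
      have hLtop : L ≠ ⊤ := fun e => P.not_dvd_index (by rw [hidx, e, card_top]; exact h.hpG)
      rcases hsmall L hLtop (hdiv 2 Nat.prime_two hT₀' h.hp2.symm) r hr (hdiv r hr hrG hrp)
        with e | e
      · exact hrp e
      · exact hrq e
  refine ⟨n, rfl, ⟨h.hp, h.hp2, ?_, hpn, fun T => T.card_eq_multiplicity, h.hpG, hsmall,
    ⟨r, hr, hrG, hrp, hrq⟩, hcomm, hsq, hconj, hmoves, hsimple, hnonab⟩⟩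
  have := h.hp.two_le
  by_contra hlt
  have : 2 ^ n ≤ 2 ^ 1 := Nat.pow_le_pow_right two_pos (by omega)
  omega

namespace Exceptional

variable {p n : ℕ}

theorem act (h : Exceptional G p n) {x : G} (hx : ∃ k, orderOf x = p ^ k) {U : Subgroup G}
    (hU : IsPGroup 2 U) (hxU : x ∈ normalizer (U : Set G)) :
    (∀ u ∈ U, x * u = u * x) ∨ (Nat.card U = 2 ^ n ∧ ∀ u ∈ U, u ≠ 1 → x * u ≠ u * x ∧
      ∀ v ∈ U, v ≠ 1 → ∃ i : ℤ, x ^ i * u * (x ^ i)⁻¹ = v) := by
  have := Fact.mk h.prime
  obtain ⟨T, hT⟩ := hU.exists_le_sylow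
  have h1 : Nat.card U ≤ 2 ^ n :=
    h.card_two T ▸ Nat.le_of_dvd Nat.card_pos (card_dvd_of_le hT)
  have h2 := h.pow_eq
  rw [← h2]
  exact act_dichotomy hx hxU (by omega)

theorem centralizer_ne_top (h : Exceptional G p n) {x : G} (hx : x ≠ 1) :
    centralizer ({x} : Set G) ≠ ⊤ := by
  intro e
  have := h.simple
  have hc : x ∈ center G := Subgroup.mem_center_iff.mpr fun g =>
    Subgroup.mem_centralizer_singleton_iff.mp (e ▸ mem_top g)
  rcases (inferInstance : (center G).Normal).eq_bot_or_eq_top with hb | ht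
  · exact hx (mem_bot.mp (hb ▸ hc))
  · exact h.noncomm fun a b => Subgroup.mem_center_iff.mp (ht ▸ mem_top b) a

theorem normalizer_ne_top (h : Exceptional G p n) {X : Subgroup G} (hX : X ≠ ⊥) (hX' : X ≠ ⊤) :
    normalizer (X : Set G) ≠ ⊤ := by
  intro e
  have := h.simple
  have : X.Normal := normalizer_eq_top_iff.mp e
  rcases this.eq_bot_or_eq_top with hb | ht
  · exact hX hb
  · exact hX' ht

theorem exists_sylow_mem (h : Exceptional G p n) {t : G} (ht : t * t = 1) :
    ∃ T : Sylow 2 G, t ∈ T := by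
  obtain ⟨k, -, hk⟩ := (Nat.dvd_prime_pow Nat.prime_two (m := 1)).mp
    (orderOf_dvd_of_pow_eq_one (show t ^ 2 ^ 1 = 1 by rw [pow_one, pow_two, ht]))
  obtain ⟨T, hT⟩ := (isPGroup_zpowers (p := 2) ⟨k, hk⟩).exists_le_sylow
  exact ⟨T, hT (mem_zpowers t)⟩

theorem mem_centralizer_of_mem (h : Exceptional G p n) (T : Sylow 2 G) {t : G} (ht : t ∈ T) :
    (T : Subgroup G) ≤ centralizer ({t} : Set G) := fun _ hu =>
  Subgroup.mem_centralizer_singleton_iff.mpr (comm_of_sq (h.sq T) hu ht)

/-- A subgroup of even order containing a Sylow `p`-subgroup normalises it or a Sylow 2-subgroup. -/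
theorem dichotomy (h : Exceptional G p n) {H : Subgroup G} (hH : H ≠ ⊤) (h2 : 2 ∣ Nat.card H)
    (P : Sylow p G) (hP : (P : Subgroup G) ≤ H) :
    H ≤ normalizer ((P : Subgroup G) : Set G) ∨
      ∃ T : Sylow 2 G, (T : Subgroup G) ≤ H ∧ H ≤ normalizer ((T : Subgroup G) : Set G) := by
  have := Fact.mk h.prime
  have hprimes := h.small H hH h2
  have : Group.IsSolvable H :=
    CfsgLib.Chars.Apps.isSolvable_of_primeFactors_subset H h.prime Nat.prime_two hprimes
  set U := Cfsg.pPrimeCore p H with hUdef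
  have hU : IsPGroup 2 U := by
    refine IsPGroup.of_card (n := (Nat.card U).primeFactorsList.length) ?_
    refine Nat.eq_prime_pow_of_unique_prime_dvd Nat.card_pos.ne' (fun {s} hs hd => ?_)
    rcases hprimes s hs (hd.trans U.card_subgroup_dvd_card) with e | e
    · exact absurd (e ▸ hd) CfsgLib.Constrained.pPrimeCore_not_dvd
    · exact e
  set W := U.map H.subtype with hW
  have hW2 : IsPGroup 2 W := hU.map _
  have hHW : H ≤ normalizer (W : Set G) := le_normalizer_map_subtype U
  by_cases hfull : Nat.card W = 2 ^ n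
  · right
    obtain ⟨T, hT⟩ := hW2.exists_le_sylow
    have hTW : W = (T : Subgroup G) :=
      Subgroup.eq_of_le_of_card_ge hT (by rw [hfull, h.card_two T])
    exact ⟨T, hTW ▸ map_subtype_le U, hTW ▸ hHW⟩
  left
  have hcent : ∀ a ∈ (P : Subgroup G), ∀ w ∈ W, a * w = w * a := fun a ha =>
    (h.act (exists_orderOf_pow P.isPGroup' ha) hW2 (hHW (hP ha))).resolve_right
      (fun hc => hfull hc.1)
  set S : Sylow p H := P.subtype hP with hS
  have hScent : ∀ a ∈ (S : Subgroup H), ∀ w ∈ U, a * w = w * a := fun a ha w hw =>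
    Subtype.ext (hcent a ha w (mem_map_of_mem _ hw))
  have hHH := CfsgLib.Constrained.centralizer_pCore_quotient_le (p := p) (G := H)
    CfsgLib.Constrained.isPSolvable_of_isSolvable
  set π := QuotientGroup.mk' U with hπ
  have hπs : Function.Surjective π := QuotientGroup.mk'_surjective U
  set S' : Sylow p (H ⧸ U) := S.mapSurjective hπs with hS'
  have hS'comm : ∀ a ∈ S', ∀ b ∈ S', a * b = b * a := by
    rintro _ ⟨a, ha, rfl⟩ _ ⟨b, hb, rfl⟩
    rw [← map_mul, ← map_mul]
    exact congrArg π (Subtype.ext (h.comm P P.isPGroup' _ ha _ hb))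
  have hOle : Cfsg.pCore p (H ⧸ U) ≤ (S' : Subgroup (H ⧸ U)) :=
    (CfsgLib.Constrained.isPGroup_pCore (p := p) (G := H ⧸ U)).le_sylow_of_normal S'
  have hS'eq : (S' : Subgroup (H ⧸ U)) = Cfsg.pCore p (H ⧸ U) := by
    refine le_antisymm (fun a ha => hHH ?_) hOle
    exact Subgroup.mem_centralizer_iff.mpr fun b hb => hS'comm b (hOle hb) a ha
  set L := (S' : Subgroup (H ⧸ U)).comap π with hL
  have hLn : L.Normal := by
    have : (S' : Subgroup (H ⧸ U)).Normal := hS'eq ▸ inferInstance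
    exact this.comap π
  have hSL : (S : Subgroup H) ≤ L := fun a ha => ⟨a, ha, rfl⟩
  have hsup : normalizer ((S : Subgroup H) : Set H) ⊔ L = ⊤ := Sylow.normalizer_sup_eq_top' S hSL
  have hLle : L ≤ normalizer ((S : Subgroup H) : Set H) := by
    have hLeq : L = (S : Subgroup H) ⊔ U := by
      rw [hL, hS', Sylow.coe_mapSurjective, comap_map_eq, hπ, QuotientGroup.ker_mk']
    rw [hLeq, sup_le_iff]
    refine ⟨le_normalizer, fun w hw => ?_⟩
    rw [Subgroup.mem_normalizer_iff]
    intro b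
    constructor
    · intro hb
      rw [show w * b * w⁻¹ = b by rw [← hScent b hb w hw, mul_inv_cancel_right]]
      exact hb
    · intro hb
      have e := hScent _ hb w hw
      have : b = w * b * w⁻¹ := by
        have e' : w * (w * b * w⁻¹) = w * b := by rw [← e, inv_mul_cancel_right]
        exact (mul_left_cancel e').symm
      rwa [this]
  rw [sup_eq_left.mpr hLle] at hsup
  intro a ha
  have := hsup ▸ mem_top (⟨a, ha⟩ : H)
  rw [Subgroup.mem_normalizer_iff]
  intro b
  have hiff := Subgroup.mem_normalizer_iff.mp this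
  constructor
  · intro hb
    exact (hiff ⟨b, hP hb⟩).mp hb
  · intro hb
    have hbH : b ∈ H := by
      have := H.mul_mem (H.mul_mem (H.inv_mem ha) (hP hb)) ha
      simpa [mul_assoc] using this
    exact (hiff ⟨b, hbH⟩).mpr hb

/-- The centralizer of an involution is `W ⊔ T` with `W` its normal Sylow `p`-subgroup. -/
theorem involution_centralizer (h : Exceptional G p n) {t : G} (ht1 : t ≠ 1) (T : Sylow 2 G)
    (htT : t ∈ T) :
    ∃ W : Subgroup G, IsPGroup p W ∧ W ≤ centralizer ({t} : Set G) ∧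
      centralizer ({t} : Set G) ≤ normalizer (W : Set G) ∧
      (∀ x ∈ centralizer ({t} : Set G), (∃ k, orderOf x = p ^ k) → x ∈ W) ∧
      centralizer ({t} : Set G) ≤ W ⊔ (T : Subgroup G) := by
  have := Fact.mk h.prime
  set C := centralizer ({t} : Set G) with hC
  have hTC : (T : Subgroup G) ≤ C := h.mem_centralizer_of_mem T htT
  have hC2 : 2 ∣ Nat.card C := by
    have : orderOf t = 2 := orderOf_eq_prime (by rw [pow_two, h.sq T t htT]) ht1
    exact this ▸ C.orderOf_dvd_natCard (hTC htT)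
  have hprimes := h.small C (h.centralizer_ne_top ht1) hC2
  set T' : Sylow 2 C := T.subtype hTC with hT'
  have hN : normalizer ((T' : Subgroup C) : Set C) ≤ centralizer ((T' : Subgroup C) : Set C) := by
    intro g hg
    rw [Subgroup.mem_centralizer_iff]
    intro u hu
    have hu' : (u : G) ∈ T := hu
    have hgT : (g : G) ∈ normalizer ((T : Subgroup G) : Set G) := by
      rw [Subgroup.mem_normalizer_iff]
      have hiff := Subgroup.mem_normalizer_iff.mp hg
      intro b
      constructor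
      · intro hb
        exact (hiff ⟨b, hTC hb⟩).mp hb
      · intro hb
        have hbC : b ∈ C := by
          have := C.mul_mem (C.mul_mem (C.inv_mem g.2) (hTC hb)) g.2
          simpa [mul_assoc] using this
        exact (hiff ⟨b, hbC⟩).mpr hb
    obtain ⟨a, b, hab⟩ : ∃ a b, orderOf (g : G) = p ^ a * 2 ^ b := by
      refine ⟨(orderOf (g : G)).factorization p, (orderOf (g : G)).factorization 2, ?_⟩
      have ho : orderOf (g : G) ≠ 0 := (orderOf_pos _).ne'
      refine Nat.eq_of_factorization_eq ho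
        (mul_ne_zero (pow_ne_zero _ h.prime.ne_zero) (pow_ne_zero _ two_ne_zero)) fun s => ?_
      rw [Nat.factorization_mul (pow_ne_zero _ h.prime.ne_zero) (pow_ne_zero _ two_ne_zero),
        h.prime.factorization_pow, Nat.prime_two.factorization_pow, Finsupp.add_apply,
        Finsupp.single_apply, Finsupp.single_apply]
      by_cases hsp : p = s
      · subst hsp
        simp [h.ne_two.symm]
      by_cases hs2 : 2 = s
      · subst hs2
        simp [hsp]
      simp only [hsp, hs2, if_false, add_zero]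
      by_contra hne
      have hsmem : s ∈ (orderOf (g : G)).primeFactors :=
        Nat.support_factorization (orderOf (g : G)) ▸ Finsupp.mem_support_iff.mpr hne
      rcases hprimes s (Nat.prime_of_mem_primeFactors hsmem)
          ((Nat.dvd_of_mem_primeFactors hsmem).trans (C.orderOf_dvd_natCard g.2)) with e | e
      · exact hsp e.symm
      · exact hs2 e.symm
    set g₁ := (g : G) ^ (p ^ a) with hg₁
    set g₂ := (g : G) ^ (2 ^ b) with hg₂
    have h1 : g₁ * u = u * g₁ := by
      have hpow : g₁ ^ 2 ^ b = 1 := by rw [hg₁, ← pow_mul, ← hab, pow_orderOf_eq_one]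
      obtain ⟨j, -, hj⟩ := (Nat.dvd_prime_pow Nat.prime_two).mp (orderOf_dvd_of_pow_eq_one hpow)
      have hmem : g₁ ∈ T := by
        have hle : zpowers g₁ ≤ normalizer ((T : Subgroup G) : Set G) :=
          zpowers_le.mpr (pow_mem hgT _)
        have hs : IsPGroup 2 (zpowers g₁ ⊔ (T : Subgroup G) : Subgroup G) :=
          (isPGroup_zpowers ⟨j, hj⟩).to_sup_of_normal_right' T.isPGroup' hle
        have e := T.3 hs le_sup_right
        show g₁ ∈ (T : Subgroup G)
        rw [← e]
        exact mem_sup_left (mem_zpowers g₁)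
      exact comm_of_sq (h.sq T) hmem hu'
    have h2 : g₂ * u = u * g₂ := by
      have hpow : g₂ ^ p ^ a = 1 := by
        rw [hg₂, ← pow_mul, mul_comm, ← hab, pow_orderOf_eq_one]
      obtain ⟨j, -, hj⟩ := (Nat.dvd_prime_pow h.prime).mp (orderOf_dvd_of_pow_eq_one hpow)
      rcases h.act ⟨j, hj⟩ T.isPGroup' (pow_mem hgT _) with hc | ⟨-, hc⟩
      · exact hc u hu'
      · refine absurd ?_ (hc t htT ht1).1
        exact ((show Commute (g : G) t from
          Subgroup.mem_centralizer_singleton_iff.mp g.2).pow_left _).eq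
    have hgcd : Nat.gcd (p ^ a) (2 ^ b) = 1 :=
      Nat.Coprime.pow a b ((Nat.coprime_primes h.prime Nat.prime_two).mpr h.ne_two)
    have hbez := Nat.gcd_eq_gcd_ab (p ^ a) (2 ^ b)
    rw [hgcd] at hbez
    have hgg : (g : G) = g₁ ^ (Nat.gcdA (p ^ a) (2 ^ b)) * g₂ ^ (Nat.gcdB (p ^ a) (2 ^ b)) := by
      rw [hg₁, hg₂, ← zpow_natCast, ← zpow_mul, ← zpow_natCast (g : G) (2 ^ b), ← zpow_mul,
        ← zpow_add, ← hbez]
      simp
    apply Subtype.ext
    show (u : G) * g = g * u
    rw [hgg]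
    exact (((show Commute (u : G) g₁ from h1.symm).zpow_right _).mul_right
      ((show Commute (u : G) g₂ from h2.symm).zpow_right _)).eq
  set f := MonoidHom.transferSylow T' hN with hf
  have hcompl : IsComplement' f.ker (T' : Subgroup C) := MonoidHom.ker_transferSylow_isComplement' T' hN
  have hW : IsPGroup p f.ker := by
    refine IsPGroup.of_card (n := (Nat.card f.ker).primeFactorsList.length) ?_
    refine Nat.eq_prime_pow_of_unique_prime_dvd Nat.card_pos.ne' (fun {s} hs hd => ?_)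
    rcases hprimes s hs (hd.trans f.ker.card_subgroup_dvd_card) with e | e
    · exact e
    · exact absurd (e ▸ hd) (MonoidHom.not_dvd_card_ker_transferSylow T' hN)
  refine ⟨f.ker.map C.subtype, hW.map _, map_subtype_le _, ?_, ?_, ?_⟩
  · exact le_normalizer_map_subtype f.ker
  · rintro x hx ⟨k, hk⟩
    refine ⟨⟨x, hx⟩, ?_, rfl⟩
    rw [SetLike.mem_coe, MonoidHom.mem_ker, ← orderOf_eq_one_iff]
    obtain ⟨j, hj⟩ := IsPGroup.iff_orderOf.mp T'.isPGroup' (f ⟨x, hx⟩)
    have h1 := orderOf_map_dvd f (⟨x, hx⟩ : C)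
    have hox : orderOf (⟨x, hx⟩ : C) = orderOf x := Subgroup.orderOf_mk x hx
    rw [hox, hk, hj] at h1
    rw [hj]
    exact Nat.eq_one_of_dvd_coprimes
      (Nat.Coprime.pow j k ((Nat.coprime_primes Nat.prime_two h.prime).mpr h.ne_two.symm))
      dvd_rfl h1
  · have e : (f.ker ⊔ (T' : Subgroup C)).map C.subtype = C := by
      rw [hcompl.sup_eq_top, ← MonoidHom.range_eq_map, range_subtype]
    rw [Subgroup.map_sup] at e
    have e2 : (T' : Subgroup C).map C.subtype = (T : Subgroup G) := by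
      show ((T : Subgroup G).subgroupOf C).map C.subtype = _
      rw [subgroupOf_map_subtype, inf_eq_left.mpr hTC]
    rw [e2] at e
    exact e.ge

/-- A `p`-element centralised by an involution but by no Sylow 2-subgroup lies in a unique Sylow
`p`-subgroup, and its centralizer normalises that subgroup. -/
theorem unique_sylow (h : Exceptional G p n) {x t : G} (hx1 : x ≠ 1) (ht1 : t ≠ 1)
    (ht : t * t = 1) (hcomm : t * x = x * t)
    (hno : ∀ T : Sylow 2 G, ¬ (T : Subgroup G) ≤ centralizer ({x} : Set G))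
    (P : Sylow p G) (hxP : x ∈ P) :
    centralizer ({x} : Set G) ≤ normalizer ((P : Subgroup G) : Set G) ∧
      ∀ Q : Sylow p G, x ∈ Q → Q = P := by
  have := Fact.mk h.prime
  have hle : ∀ Q : Sylow p G, x ∈ Q → (Q : Subgroup G) ≤ centralizer ({x} : Set G) := fun Q hQ a ha =>
    Subgroup.mem_centralizer_singleton_iff.mpr (h.comm Q Q.isPGroup' a ha x hQ)
  have h2 : 2 ∣ Nat.card (centralizer ({x} : Set G)) := by
    have ho : orderOf t = 2 := orderOf_eq_prime (by rw [pow_two, ht]) ht1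
    exact ho ▸ (centralizer ({x} : Set G)).orderOf_dvd_natCard
      (Subgroup.mem_centralizer_singleton_iff.mpr hcomm)
  have hN : centralizer ({x} : Set G) ≤ normalizer ((P : Subgroup G) : Set G) :=
    (h.dichotomy (h.centralizer_ne_top hx1) h2 P (hle P hxP)).resolve_right
      fun ⟨T, hT, _⟩ => hno T hT
  refine ⟨hN, fun Q hQ => ?_⟩
  have hs : IsPGroup p ((Q : Subgroup G) ⊔ (P : Subgroup G) : Subgroup G) :=
    Q.isPGroup'.to_sup_of_normal_right' P.isPGroup' ((hle Q hQ).trans hN)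
  exact Sylow.ext ((Q.3 hs le_sup_left).symm.trans (P.3 hs le_sup_right))

end Exceptional

end CfsgLib.MixedTwoPrime
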