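import Cfsg.Agent.MixedTwoPrime.Main

/-!
The order of a mixed two-prime group has only the two primes.
-/

set_option autoImplicit false

namespace CfsgLib.MixedTwoPrime

universe u

theorem primes_eq_aux (N : ℕ) : ∀ (G : Type u) [Group G] [Finite G], Nat.card G ≤ N →
    ∀ p q : ℕ, Mixed G p q → ∀ r : ℕ, r.Prime → r ∣ Nat.card G → r = p ∨ r = q := by
  induction N with
  | zero =>
    intro G _ _ hG
    have : 0 < Nat.card G := Nat.card_pos
    omega
  | succ N ih =>
    intro G _ _ hG p q h r hr hrG
    by_contra hcon
    push Not at hcon
    have hsmall : Small G p q := small_of_inherit h fun H hH hM s hs hd => by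
      refine ih H ?_ p q hM s hs hd
      have hlt : Nat.card H < Nat.card G := by
        rcases (Nat.le_of_dvd Nat.card_pos H.card_subgroup_dvd_card).lt_or_eq with hl | he
        · exact hl
        · exact absurd (H.eq_top_of_card_eq he) hH
      omega
    obtain ⟨n, -, hexc⟩ := exceptional_of_mixed h hsmall hr hrG hcon.1 hcon.2
    exact hexc.not_exceptional

end CfsgLib.MixedTwoPrime
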