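import Cfsg.Agent.MixedTwoPrime.Cases
import Cfsg.Agent.Eq.Def_OddOrderLocal

/-!
The exceptional configuration: the two cases with a nontrivial `p`-element centralising an
involution, and the final theorem.
-/

set_option autoImplicit false

open Subgroup MulAction

namespace CfsgLib.MixedTwoPrime

variable {G : Type*} [Group G] [Finite G]

namespace Exceptional

variable {p n : ℕ}

theorem conj_pow_elt {g x : G} (hx : ∃ k, orderOf x = p ^ k) :
    ∃ k, orderOf (g * x * g⁻¹) = p ^ k := by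
  obtain ⟨k, hk⟩ := hx
  exact ⟨k, by rw [← MulAut.conj_apply, MulEquiv.orderOf_eq, hk]⟩

theorem exists_sylow_pair (h : Exceptional G p n) {a b : G} (ha : a * a = 1) (hb : b * b = 1)
    (hab : a * b = b * a) : ∃ T : Sylow 2 G, a ∈ T ∧ b ∈ T := by
  by_cases ha1 : a = 1
  · obtain ⟨T, hT⟩ := h.exists_sylow_mem hb
    exact ⟨T, ha1 ▸ (T : Subgroup G).one_mem, hT⟩
  by_cases hb1 : b = 1
  · obtain ⟨T, hT⟩ := h.exists_sylow_mem ha
    exact ⟨T, hT, hb1 ▸ (T : Subgroup G).one_mem⟩
  have hle : zpowers a ≤ normalizer ((zpowers b : Subgroup G) : Set G) := by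
    refine le_trans ?_ (centralizer_le_normalizer _)
    rw [zpowers_le, Subgroup.mem_centralizer_iff]
    rintro _ ⟨i, rfl⟩
    exact ((show Commute a b from hab).zpow_right i).eq.symm
  have hs : IsPGroup 2 (zpowers a ⊔ zpowers b : Subgroup G) :=
    (isPGroup_zpowers (orderOf_involution ha1 ha)).to_sup_of_normal_right'
      (isPGroup_zpowers (orderOf_involution hb1 hb)) hle
  obtain ⟨T, hT⟩ := hs.exists_le_sylow
  exact ⟨T, hT (mem_sup_left (mem_zpowers a)), hT (mem_sup_right (mem_zpowers b))⟩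

/-- An element centralised by a Sylow 2-subgroup `T` has centralizer `N(T)`. -/
theorem centralizer_eq (h : Exceptional G p n) (T : Sylow 2 G) {x : G}
    (hx : ∃ k, orderOf x = p ^ k) (hx1 : x ≠ 1)
    (hT : (T : Subgroup G) ≤ centralizer ({x} : Set G)) :
    centralizer ({x} : Set G) = normalizer ((T : Subgroup G) : Set G) := by
  have := Fact.mk h.prime
  have := h.simple
  obtain ⟨P, hP⟩ := (isPGroup_zpowers hx).exists_le_sylow
  have hxP : x ∈ P := hP (mem_zpowers x)
  have hPC : (P : Subgroup G) ≤ centralizer ({x} : Set G) := fun a ha =>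
    Subgroup.mem_centralizer_singleton_iff.mpr (h.comm P P.isPGroup' a ha x hxP)
  obtain ⟨⟨t, htT⟩, ht1'⟩ := Subgroup.ne_bot_iff_exists_ne_one.mp (h.two_ne T).1
  have ht1 : t ≠ 1 := fun e => ht1' (Subtype.ext e)
  have hC2 : 2 ∣ Nat.card (centralizer ({x} : Set G)) := two_dvd_card ht1 (h.sq T t htT) (hT htT)
  have hxtop := h.centralizer_ne_top hx1
  rcases h.dichotomy hxtop hC2 P hPC with hN | ⟨T', hT'C, hT'N⟩
  · exfalso
    have hNe := (h.primes_normalizer P ht1 (h.sq T t htT) (hN (hT htT))).1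
    have hEq := h.eq_of_contains hN hNe T P hT hPC
    haveI : IsMulCommutative (P : Subgroup G) :=
      ⟨⟨fun a b => Subtype.ext (h.comm P P.isPGroup' _ a.2 _ b.2)⟩⟩
    exact Cfsg.Agent.S4018.false_of_central h.noncomm P inferInstance hxP hx1
      fun g hg => Subgroup.mem_centralizer_singleton_iff.mp (hEq ▸ hg)
  · have hTT' : (T : Subgroup G) = T' := by
      have hle : (T : Subgroup G) ≤ T' := fun u hu =>
        h.mem_two T' (h.sq T u hu) (hT'N (hT hu))
      exact (T.3 T'.isPGroup' hle).symm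
    rw [hTT']
    exact h.eq_of_contains hT'N (h.normalizer_ne_top (h.two_ne T').1 (h.two_ne T').2) T P hT hPC

/-- No nontrivial `p`-element centralises a Sylow 2-subgroup. -/
theorem not_le_centralizer (h : Exceptional G p n) (T : Sylow 2 G) {x : G}
    (hx : ∃ k, orderOf x = p ^ k) (hx1 : x ≠ 1)
    (hT : (T : Subgroup G) ≤ centralizer ({x} : Set G)) : False := by
  classical
  have := Fact.mk h.prime
  have := h.simple
  have hI0 := h.centralizer_eq T hx hx1 hT
  -- every involution centralizer is the centralizer of a Sylow 2-subgroup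
  have hcent : ∀ (T' : Sylow 2 G) (t : G), t ∈ T' → t ≠ 1 →
      centralizer ({t} : Set G) ≤ centralizer ((T' : Subgroup G) : Set G) := by
    intro T' t htT' ht1
    obtain ⟨g, rfl⟩ := MulAction.exists_smul_eq G T T'
    set y := g * x * g⁻¹ with hy
    have hy1 : y ≠ 1 := fun e => hx1 (conj_eq_one_iff.mp e)
    have hTy : ((g • T : Sylow 2 G) : Subgroup G) ≤ centralizer ({y} : Set G) := by
      intro u hu
      have h1 := Subgroup.mem_centralizer_singleton_iff.mp (hT ((mem_smul_sylow T g u).mp hu))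
      rw [Subgroup.mem_centralizer_singleton_iff]
      calc u * y = g * (g⁻¹ * u * g * x) * g⁻¹ := by rw [hy]; group
        _ = g * (x * (g⁻¹ * u * g)) * g⁻¹ := by rw [h1]
        _ = y * u := by rw [hy]; group
    have hN := h.centralizer_eq (g • T) (conj_pow_elt hx) hy1 hTy
    obtain ⟨W, hWp, hWC, -, hWmem, hle⟩ := h.involution_centralizer ht1 (g • T) htT'
    have hyW : y ∈ W := hWmem y (Subgroup.mem_centralizer_singleton_iff.mpr
      (Subgroup.mem_centralizer_singleton_iff.mp (hTy htT')).symm) (conj_pow_elt hx)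
    refine hle.trans (sup_le (fun w hw => ?_) (fun u hu => ?_))
    · have hwN : w ∈ normalizer (((g • T : Sylow 2 G) : Subgroup G) : Set G) := hN ▸
        Subgroup.mem_centralizer_singleton_iff.mpr (h.comm W hWp w hw y hyW)
      rcases h.act (exists_orderOf_pow hWp hw) (g • T).isPGroup' hwN with hc | ⟨-, hc⟩
      · exact Subgroup.mem_centralizer_iff.mpr fun v hv => (hc v hv).symm
      · exact absurd (Subgroup.mem_centralizer_singleton_iff.mp (hWC hw)) (hc t htT' ht1).1
    · exact Subgroup.mem_centralizer_iff.mpr fun v hv => comm_of_sq (h.sq _) hv hu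
  -- a Sylow `p`-subgroup containing `x` and an element moving `T`
  obtain ⟨m, hm, hmN, u₀, hu₀, hmu₀⟩ := h.moves T
  have hmx : m * x = x * m := Subgroup.mem_centralizer_singleton_iff.mp (hI0 ▸ hmN)
  obtain ⟨P, hxP, hmP⟩ : ∃ P : Sylow p G, x ∈ P ∧ m ∈ P := by
    have hle : zpowers x ≤ normalizer ((zpowers m : Subgroup G) : Set G) := by
      refine le_trans ?_ (centralizer_le_normalizer _)
      rw [zpowers_le, Subgroup.mem_centralizer_iff]
      rintro _ ⟨i, rfl⟩
      exact ((show Commute m x from hmx).zpow_left i).eq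
    obtain ⟨P, hP⟩ :=
      ((isPGroup_zpowers hx).to_sup_of_normal_right' (isPGroup_zpowers hm) hle).exists_le_sylow
    exact ⟨P, hP (mem_sup_left (mem_zpowers x)), hP (mem_sup_right (mem_zpowers m))⟩
  have hPN : (P : Subgroup G) ≤ normalizer ((T : Subgroup G) : Set G) := hI0 ▸ fun a ha =>
    Subgroup.mem_centralizer_singleton_iff.mpr (h.comm P P.isPGroup' a ha x hxP)
  obtain ⟨⟨t, htT⟩, ht1'⟩ := Subgroup.ne_bot_iff_exists_ne_one.mp (h.two_ne T).1
  have ht1 : t ≠ 1 := fun e => ht1' (Subtype.ext e)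
  -- an involution normalising `P`
  obtain ⟨w, hw1, hw, hwP⟩ : ∃ w : G, w ≠ 1 ∧ w * w = 1 ∧
      w ∈ normalizer ((P : Subgroup G) : Set G) := by
    obtain ⟨Q, hQ⟩ := h.exists_inverting hcent T htT ht1
    obtain ⟨g, hg⟩ := MulAction.exists_smul_eq G Q P
    refine ⟨g * t * g⁻¹, fun e => ht1 (conj_eq_one_iff.mp e), ?_, ?_⟩
    · calc g * t * g⁻¹ * (g * t * g⁻¹) = g * (t * t) * g⁻¹ := by group
        _ = 1 := by rw [h.sq T t htT, mul_one, mul_inv_cancel]
    · refine Sylow.smul_eq_iff_mem_normalizer.mp ?_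
      rw [← hg, smul_smul, inv_mul_cancel_right, ← smul_smul,
        Sylow.smul_eq_iff_mem_normalizer.mpr hQ]
  have hwN : ∀ v : G, v * v = 1 → v ∈ normalizer ((P : Subgroup G) : Set G) → v ≠ 1 →
      v ∉ normalizer ((T : Subgroup G) : Set G) := by
    intro v hv hvP hv1 hvT
    have hvT' := h.mem_two T hv hvT
    have : m ∈ centralizer ((T : Subgroup G) : Set G) := hcent T v hvT' hv1
      (Subgroup.mem_centralizer_singleton_iff.mpr
        (h.commute_of_normalizes T P hmP hvT' (hPN hmP) hvP))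
    exact hmu₀ (Subgroup.mem_centralizer_iff.mp this u₀ hu₀).symm
  set P₁ := (P : Subgroup G) ⊓ centralizer ((T : Subgroup G) : Set G) with hP₁
  have hxP₁ : x ∈ P₁ := ⟨hxP, Subgroup.mem_centralizer_iff.mpr fun v hv =>
    Subgroup.mem_centralizer_singleton_iff.mp (hT hv)⟩
  have hvconj : ∀ v a : G, v * v = 1 → v ∈ normalizer ((P : Subgroup G) : Set G) → a ∈ P →
      v * a * v ∈ (P : Subgroup G) := by
    intro v a hv hvP ha
    have := (Subgroup.mem_normalizer_iff.mp hvP a).mp ha
    rwa [inv_eq_of_mul_eq_one_right hv] at this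
  -- `P₁` meets its conjugate by such an involution trivially
  have hdisj : ∀ v a : G, v * v = 1 → v ∈ normalizer ((P : Subgroup G) : Set G) → v ≠ 1 →
      a ∈ P₁ → v * a * v ∈ centralizer ((T : Subgroup G) : Set G) → a = 1 := by
    intro v a hv hvP hv1 ha hb
    by_contra ha1
    have hvi : v⁻¹ = v := inv_eq_of_mul_eq_one_right hv
    have hb1 : v * a * v ≠ 1 := fun e => ha1 (conj_eq_one_iff.mp (hvi.symm ▸ e : v * a * v⁻¹ = 1))
    have hord := exists_orderOf_pow P.isPGroup' (hvconj v a hv hvP ha.1)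
    have e1 := h.centralizer_eq T hord hb1 fun u hu =>
      Subgroup.mem_centralizer_singleton_iff.mpr (Subgroup.mem_centralizer_iff.mp hb u hu)
    have e2 := h.centralizer_eq T (exists_orderOf_pow P.isPGroup' ha.1) ha1 fun u hu =>
      Subgroup.mem_centralizer_singleton_iff.mpr (Subgroup.mem_centralizer_iff.mp ha.2 u hu)
    refine hwN v hv hvP hv1 ?_
    have hmap : ∀ u ∈ (T : Subgroup G), v * u * v ∈ (T : Subgroup G) := by
      intro u hu
      refine h.mem_two T ?_ ?_
      · calc v * u * v * (v * u * v) = v * u * (v * v) * u * v := by group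
          _ = v * (u * u) * v := by rw [hv]; group
          _ = 1 := by rw [h.sq T u hu, mul_one, hv]
      · rw [← e1, Subgroup.mem_centralizer_singleton_iff]
        have hua : u * a = a * u := Subgroup.mem_centralizer_iff.mp ha.2 u hu
        calc v * u * v * (v * a * v) = v * u * (v * v) * a * v := by group
          _ = v * (u * a) * v := by rw [hv]; group
          _ = v * (a * u) * v := by rw [hua]
          _ = v * a * (v * v) * u * v := by rw [hv]; group
          _ = v * a * v * (v * u * v) := by group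
    rw [Subgroup.mem_normalizer_iff]
    intro u
    rw [hvi]
    refine ⟨hmap u, fun hu => ?_⟩
    have := hmap _ hu
    rwa [show v * (v * u * v) * v = (v * v) * u * (v * v) by group, hv, one_mul, mul_one] at this
  -- `|P : P₁| ≤ p`
  have hidx : (P₁.subgroupOf (P : Subgroup G)).index ≤ p := by
    set S : Set G := ((T : Subgroup G) : Set G) \ {1} with hS
    have hmem : ∀ a : (P : Subgroup G), (a : G) * t * (a : G)⁻¹ ∈ S := fun a =>
      ⟨(Subgroup.mem_normalizer_iff.mp (hPN a.2) t).mp htT,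
        fun e => ht1 (conj_eq_one_iff.mp (Set.mem_singleton_iff.mp e))⟩
    let f : (P : Subgroup G) ⧸ P₁.subgroupOf (P : Subgroup G) → S :=
      Quotient.lift (fun a : (P : Subgroup G) => (⟨(a : G) * t * (a : G)⁻¹, hmem a⟩ : S))
        fun a b hab => by
          have hab' : a⁻¹ * b ∈ P₁.subgroupOf (P : Subgroup G) := QuotientGroup.leftRel_apply.mp hab
          have hc : ((a⁻¹ * b : (P : Subgroup G)) : G) ∈ centralizer ((T : Subgroup G) : Set G) := hab'.2
          have hcomm := Subgroup.mem_centralizer_iff.mp hc t htT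
          apply Subtype.ext
          show (a : G) * t * (a : G)⁻¹ = (b : G) * t * (b : G)⁻¹
          have e : (b : G) = a * ((a⁻¹ * b : (P : Subgroup G)) : G) := by simp
          rw [e]
          calc (a : G) * t * (a : G)⁻¹
              = a * (t * ((a⁻¹ * b : (P : Subgroup G)) : G)) *
                ((a⁻¹ * b : (P : Subgroup G)) : G)⁻¹ * (a : G)⁻¹ := by group
            _ = _ := by rw [hcomm]; group
    have hf : Function.Injective f := by
      intro a b
      induction a using QuotientGroup.induction_on with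
      | H a =>
      induction b using QuotientGroup.induction_on with
      | H b =>
      intro e
      rw [QuotientGroup.eq]
      have e' : (a : G) * t * (a : G)⁻¹ = (b : G) * t * (b : G)⁻¹ := congrArg Subtype.val e
      refine ⟨(a⁻¹ * b).2, hcent T t htT ht1 (Subgroup.mem_centralizer_singleton_iff.mpr ?_)⟩
      show (a : G)⁻¹ * b * t = t * ((a : G)⁻¹ * b)
      calc (a : G)⁻¹ * b * t = (a : G)⁻¹ * ((b : G) * t * (b : G)⁻¹) * b := by group
        _ = t * ((a : G)⁻¹ * b) := by rw [← e']; group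
    have hScard : Nat.card S = p := by
      rw [Nat.card_coe_set_eq, hS, Set.ncard_sdiff_singleton_of_mem (T : Subgroup G).one_mem,
        ← Nat.card_coe_set_eq]
      have := h.card_two T
      have := h.pow_eq
      show Nat.card T - 1 = p
      omega
    exact (Nat.card_le_card_of_injective f hf).trans_eq hScard
  -- orders
  have hP₁sub : Nat.card (P₁.subgroupOf (P : Subgroup G)) = Nat.card P₁ :=
    Nat.card_congr (Subgroup.subgroupOfEquivOfLe inf_le_left).toEquiv
  have hPle : Nat.card (P : Subgroup G) ≤ Nat.card P₁ * p := by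
    rw [← (P₁.subgroupOf (P : Subgroup G)).card_mul_index, hP₁sub]
    exact Nat.mul_le_mul_left _ hidx
  have hprodle : Nat.card P₁ * Nat.card P₁ ≤ Nat.card (P : Subgroup G) := by
    rw [← Nat.card_prod]
    have hwi : w⁻¹ = w := inv_eq_of_mul_eq_one_right hw
    refine Nat.card_le_card_of_injective
      (fun c : P₁ × P₁ => (⟨(c.1 : G) * (w * c.2 * w),
        mul_mem c.1.2.1 (hvconj w _ hw hwP c.2.2.1)⟩ : (P : Subgroup G))) ?_
    rintro ⟨a, b⟩ ⟨c, d⟩ e
    have e' : (a : G) * (w * b * w) = c * (w * d * w) := congrArg Subtype.val e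
    have e2 : w * ((d : G) * (b : G)⁻¹) * w = (c : G)⁻¹ * a := by
      calc w * ((d : G) * (b : G)⁻¹) * w = w * d * w * (w * b * w)⁻¹ := by
            rw [mul_inv_rev, mul_inv_rev, hwi]
            calc _ = w * d * (b : G)⁻¹ * w := by group
              _ = w * d * (w * w) * (b : G)⁻¹ * w := by rw [hw]; group
              _ = _ := by group
        _ = (c : G)⁻¹ * (c * (w * d * w)) * (w * b * w)⁻¹ := by group
        _ = (c : G)⁻¹ * a := by rw [← e']; group
    have h1 : (d : G) * (b : G)⁻¹ = 1 := hdisj w _ hw hwP hw1 (mul_mem d.2 (inv_mem b.2))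
      (e2 ▸ (mul_mem (inv_mem c.2) a.2).2)
    rw [h1, mul_one, hw] at e2
    exact Prod.ext (Subtype.ext (inv_mul_eq_one.mp e2.symm).symm)
      (Subtype.ext (mul_inv_eq_one.mp h1).symm)
  have hP₁p : Nat.card P₁ = p := by
    have hP₁pg : IsPGroup p P₁ := P.isPGroup'.to_le inf_le_left
    obtain ⟨i, hi⟩ := IsPGroup.iff_card.mp hP₁pg
    have hle : Nat.card P₁ ≤ p :=
      Nat.le_of_mul_le_mul_left (hprodle.trans hPle) Nat.card_pos
    have hi0 : i ≠ 0 := by
      rintro rfl
      have hbot : P₁ = ⊥ := Subgroup.eq_bot_of_card_eq P₁ (by rw [hi, pow_zero])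
      rw [hbot, mem_bot] at hxP₁
      exact hx1 hxP₁
    have := Nat.le_self_pow hi0 p
    omega
  have hPcard : Nat.card (P : Subgroup G) = p * p := by
    rw [hP₁p] at hprodle hPle
    omega
  -- the fixed points of an involution normalising `P`
  set A : G → Subgroup G := fun v => (P : Subgroup G) ⊓ centralizer ({v} : Set G) with hA
  have hAcard : ∀ v : G, v * v = 1 → v ∈ normalizer ((P : Subgroup G) : Set G) → v ≠ 1 →
      Nat.card (A v) = p := by
    intro v hv hvP hv1
    have hvi : v⁻¹ = v := inv_eq_of_mul_eq_one_right hv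
    have hne1 : A v ≠ ⊥ := by
      intro e
      have hinv : v * x * v = x⁻¹ := by
        have hmem : x * (v * x * v) ∈ A v := ⟨mul_mem hxP (hvconj v x hv hvP hxP),
          Subgroup.mem_centralizer_singleton_iff.mpr
            (fixed_mul_conj hv (h.comm P P.isPGroup' _ hxP _ (hvconj v x hv hvP hxP))).symm⟩
        exact (inv_eq_of_mul_eq_one_right (mem_bot.mp (e ▸ hmem))).symm
      exact hx1 (hdisj v x hv hvP hv1 hxP₁ (hinv ▸ inv_mem hxP₁.2))
    have hneP : A v ≠ P := by
      intro e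
      obtain ⟨T', hvT'⟩ := h.exists_sylow_mem hv
      have hmem : ∀ a ∈ P, a ∈ centralizer ((T' : Subgroup G) : Set G) := fun a ha =>
        hcent T' v hvT' hv1 ((e.symm ▸ ha : a ∈ A v)).2
      have e1 := h.centralizer_eq T' hx hx1 fun u hu => Subgroup.mem_centralizer_singleton_iff.mpr
        (Subgroup.mem_centralizer_iff.mp (hmem x hxP) u hu)
      exact hwN v hv hvP hv1 (hI0 ▸ e1.symm ▸ le_normalizer hvT')
    obtain ⟨i, hi2, hi⟩ := (Nat.dvd_prime_pow h.prime (m := 2)).mp
      (show Nat.card (A v) ∣ p ^ 2 by rw [pow_two, ← hPcard]; exact card_dvd_of_le inf_le_left)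
    rcases (show i = 0 ∨ i = 1 ∨ i = 2 by omega) with rfl | rfl | rfl
    · exact absurd (eq_bot_of_card_eq _ (by simpa using hi)) hne1
    · simpa using hi
    · exact absurd (Subgroup.eq_of_le_of_card_ge inf_le_left
        (by rw [hi, hPcard, pow_two])) hneP
  -- a second involution
  obtain ⟨⟨c, hc⟩, hc1'⟩ := Subgroup.ne_bot_iff_exists_ne_one.mp
    (show A w ≠ ⊥ from fun e => h.prime.ne_one (by rw [← hAcard w hw hwP hw1, e, card_bot]))
  have hc1 : c ≠ 1 := fun e => hc1' (Subtype.ext e)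
  set N := normalizer ((P : Subgroup G) : Set G) with hN
  obtain ⟨hNtop, hNprimes⟩ := h.primes_normalizer P hw1 hw hwP
  have hw2 : IsPGroup 2 (zpowers w) := isPGroup_zpowers (orderOf_involution hw1 hw)
  have hwN' : IsPGroup 2 (zpowers (⟨w, hwP⟩ : N)) :=
    isPGroup_zpowers ⟨1, by
      rw [Subgroup.orderOf_mk, pow_one]; exact orderOf_eq_prime (by rw [pow_two, hw]) hw1⟩
  obtain ⟨S, hS⟩ := hwN'.exists_le_sylow
  set S' := (S : Subgroup N).map N.subtype with hS'
  obtain ⟨σ, hσS, hσc⟩ : ∃ σ ∈ S', ¬ σ * c = c * σ := by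
    by_contra hno
    push Not at hno
    set B := (P : Subgroup G) ⊔ S' with hB
    have hBN : B ≤ N := sup_le le_normalizer (map_subtype_le _)
    have hBeq : B = N := by
      refine Subgroup.eq_of_le_of_card_ge hBN (Nat.le_of_dvd Nat.card_pos ?_)
      exact (Nat.dvd_iff_prime_pow_dvd_dvd _ _).mpr fun s k hs hk => by
        rcases Nat.eq_zero_or_pos k with rfl | hk0
        · simp
        rcases hNprimes s hs ((dvd_pow_self s hk0.ne').trans hk) with rfl | rfl
        · exact (P.pow_dvd_card_of_pow_dvd_card (hk.trans N.card_subgroup_dvd_card)).trans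
            (card_dvd_of_le le_sup_left)
        · refine (S.pow_dvd_card_of_pow_dvd_card hk).trans ?_
          rw [show Nat.card S = Nat.card S' from
            (card_map_of_injective (K := (S : Subgroup N)) N.subtype_injective).symm]
          exact card_dvd_of_le le_sup_right
    have hBc : B ≤ centralizer ({c} : Set G) := sup_le
      (fun a ha => Subgroup.mem_centralizer_singleton_iff.mpr (h.comm P P.isPGroup' a ha c hc.1))
      (fun a ha => Subgroup.mem_centralizer_singleton_iff.mpr (hno a ha))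
    haveI : IsMulCommutative (P : Subgroup G) :=
      ⟨⟨fun a b => Subtype.ext (h.comm P P.isPGroup' _ a.2 _ b.2)⟩⟩
    exact Cfsg.Agent.S4018.false_of_central h.noncomm P inferInstance hc.1 hc1 fun g hg =>
      Subgroup.mem_centralizer_singleton_iff.mp (hBc (hBeq ▸ hg))
  have hσP : σ ∈ N := map_subtype_le _ hσS
  obtain ⟨T', hT'⟩ := (S.isPGroup'.map N.subtype).exists_le_sylow
  have hwT' : w ∈ T' := hT' (mem_map_of_mem N.subtype (hS (mem_zpowers _)))
  have hσT' : σ ∈ T' := hT' hσS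
  have hσ : σ * σ = 1 := h.sq T' σ hσT'
  have hσ1 : σ ≠ 1 := fun e => hσc (by simp [e])
  have hσw : σ * w = w * σ := comm_of_sq (h.sq T') hσT' hwT'
  have hσi : σ⁻¹ = σ := inv_eq_of_mul_eq_one_right hσ
  have hwi : w⁻¹ = w := inv_eq_of_mul_eq_one_right hw
  have hcσ : c ∉ A σ := fun hh => hσc (Subgroup.mem_centralizer_singleton_iff.mp hh.2).symm
  have hAB : A w ⊓ A σ = ⊥ := by
    rw [eq_bot_iff_card]
    rcases h.prime.eq_one_or_self_of_dvd _
      (hAcard w hw hwP hw1 ▸ card_dvd_of_le (inf_le_left : A w ⊓ A σ ≤ A w)) with e | e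
    · exact e
    · have : A w ⊓ A σ = A w :=
        Subgroup.eq_of_le_of_card_ge inf_le_left (by rw [e, hAcard w hw hwP hw1])
      exact absurd ((this ▸ inf_le_right : A w ≤ A σ) hc) hcσ
  have hinvert : ∀ v v' : G, v * v = 1 → v' * v' = 1 → v' ∈ N → v * v' = v' * v →
      A v ⊓ A v' = ⊥ → ∀ a ∈ A v, v' * a * v' = a⁻¹ := by
    intro v v' hv hv' hv'P hvv' hbot a ha
    have hb : v' * a * v' ∈ A v := by
      refine ⟨hvconj v' a hv' hv'P ha.1, Subgroup.mem_centralizer_singleton_iff.mpr ?_⟩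
      have hav : a * v = v * a := Subgroup.mem_centralizer_singleton_iff.mp ha.2
      calc v' * a * v' * v = v' * a * (v' * v) := by group
        _ = v' * (a * v) * v' := by rw [← hvv']; group
        _ = (v' * v) * a * v' := by rw [hav]; group
        _ = v * (v' * a * v') := by rw [← hvv']; group
    have hmem : a * (v' * a * v') ∈ A v ⊓ A v' :=
      ⟨mul_mem ha hb, mul_mem ha.1 hb.1, Subgroup.mem_centralizer_singleton_iff.mpr
        (fixed_mul_conj hv' (h.comm P P.isPGroup' _ ha.1 _ hb.1)).symm⟩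
    exact (inv_eq_of_mul_eq_one_right (mem_bot.mp (hbot ▸ hmem))).symm
  have hA1 := hinvert w σ hw hσ hσP hσw.symm hAB
  have hA2 := hinvert σ w hσ hw hwP hσw (by rw [inf_comm]; exact hAB)
  have hτ2' : w * σ * (w * σ) = 1 := by
    calc w * σ * (w * σ) = w * (σ * w) * σ := by group
      _ = (w * w) * (σ * σ) := by rw [hσw]; group
      _ = 1 := by rw [hw, hσ, one_mul]
  set τ := w * σ with hτ
  have hτ2 : τ * τ = 1 := hτ2'
  have hτ1 : τ ≠ 1 := fun e => by
    have : σ = w := by rw [← inv_eq_of_mul_eq_one_right (hτ ▸ e : w * σ = 1), hwi]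
    exact hcσ (this ▸ hc)
  have hfix : ∀ v a : G, a * v = v * a → v * v = 1 → v * a * v = a := fun v a e hv => by
    rw [← e, mul_assoc, hv, mul_one]
  have hτconj : ∀ a, τ * a * τ = w * (σ * a * σ) * w := fun a => by
    rw [hτ]
    calc w * σ * a * (w * σ) = w * σ * a * (σ * w) := by rw [hσw]
      _ = w * (σ * a * σ) * w := by group
  have hi1 : ∀ a ∈ A w, τ * a * τ = a⁻¹ := fun a ha => by
    rw [hτconj, hA1 a ha, hfix w a⁻¹ (Subgroup.mem_centralizer_singleton_iff.mp (inv_mem ha).2) hw]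
  have hi2 : ∀ a ∈ A σ, τ * a * τ = a⁻¹ := fun a ha => by
    rw [hτconj, hfix σ a (Subgroup.mem_centralizer_singleton_iff.mp ha.2) hσ, hA2 a ha]
  let g : A w × A σ → (P : Subgroup G) := fun c => ⟨(c.1 : G) * c.2, mul_mem c.1.2.1 c.2.2.1⟩
  have hg : Function.Bijective g := by
    have hinj : Function.Injective g := by
      rintro ⟨a, b⟩ ⟨c, d⟩ e
      have e' : (a : G) * b = c * d := congrArg Subtype.val e
      have e2 : (c : G)⁻¹ * a = d * (b : G)⁻¹ := by
        rw [inv_mul_eq_iff_eq_mul, ← mul_assoc, eq_mul_inv_iff_mul_eq, e']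
      have h1 : (c : G)⁻¹ * a ∈ A w ⊓ A σ :=
        ⟨(A w).mul_mem ((A w).inv_mem c.2) a.2, e2 ▸ (A σ).mul_mem d.2 ((A σ).inv_mem b.2)⟩
      rw [hAB, mem_bot] at h1
      exact Prod.ext (Subtype.ext (inv_mul_eq_one.mp h1).symm)
        (Subtype.ext (mul_inv_eq_one.mp (e2.symm.trans h1)).symm)
    refine (Nat.bijective_iff_injective_and_card g).mpr ⟨hinj, ?_⟩
    rw [Nat.card_prod, hAcard w hw hwP hw1, hAcard σ hσ hσP hσ1, hPcard]
  obtain ⟨⟨d, hd⟩, hd1⟩ := Subgroup.ne_bot_iff_exists_ne_one.mp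
    (show A τ ≠ ⊥ from fun e => h.prime.ne_one
      (by rw [← hAcard τ hτ2 (mul_mem hwP hσP) hτ1, e, card_bot]))
  obtain ⟨⟨a, b⟩, hab⟩ := hg.2 ⟨d, hd.1⟩
  have hd' : (a : G) * b = d := congrArg Subtype.val hab
  refine hd1 (Subtype.ext (eq_one_of_inv_eq h.prime h.ne_two (exists_orderOf_pow P.isPGroup' hd.1) ?_))
  have e1 : τ * d * τ = d := hfix τ d (Subgroup.mem_centralizer_singleton_iff.mp hd.2) hτ2
  have e2 : τ * d * τ = d⁻¹ := by
    rw [← hd', mul_inv_rev,
      show τ * ((a : G) * b) * τ = (τ * a * τ) * (τ * b * τ) by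
        calc _ = τ * a * (τ * τ) * b * τ := by rw [hτ2]; group
          _ = _ := by group,
      hi1 a a.2, hi2 b b.2]
    exact h.comm P P.isPGroup' _ (inv_mem a.2.1) _ (inv_mem b.2.1)
  exact e2.symm.trans e1

/-- The exceptional configuration does not occur. -/
theorem not_exceptional (h : Exceptional G p n) : False := by
  classical
  have := Fact.mk h.prime
  have := h.simple
  have hno : ∀ (T : Sylow 2 G) (x : G), (∃ k, orderOf x = p ^ k) → x ≠ 1 →
      ¬ (T : Subgroup G) ≤ centralizer ({x} : Set G) := fun T x hx hx1 hT =>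
    h.not_le_centralizer T hx hx1 hT
  by_cases hex : ∃ t x : G, t ≠ 1 ∧ t * t = 1 ∧ (∃ k, orderOf x = p ^ k) ∧ t * x = x * t ∧ x ≠ 1
  swap
  · push Not at hex
    refine h.false_of_free (fun T t htT ht1 => ?_) (fun t x ht1 ht hx hc => hex t x ht1 ht hx hc)
    obtain ⟨W, hWp, hWC, -, -, hle⟩ := h.involution_centralizer ht1 T htT
    refine hle.trans (sup_le (fun w hw => ?_) fun u hu => ?_)
    · have : w = 1 := hex t w ht1 (h.sq T t htT) (exists_orderOf_pow hWp hw)
        (Subgroup.mem_centralizer_singleton_iff.mp (hWC hw)).symm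
      exact this ▸ one_mem _
    · exact Subgroup.mem_centralizer_iff.mpr fun v hv => comm_of_sq (h.sq T) hv hu
  obtain ⟨t₀, x₀, ht₀1, ht₀, hx₀, hc₀, hx₀1⟩ := hex
  -- the Sylow `p`-subgroup attached to an involution
  have key : ∀ t x : G, t ≠ 1 → t * t = 1 → x ≠ 1 → t * x = x * t → ∀ P : Sylow p G, x ∈ P →
      centralizer ({t} : Set G) ≤ normalizer ((P : Subgroup G) : Set G) ∧
      ∀ y : G, y ≠ 1 → t * y = y * t → ∀ Q : Sylow p G, y ∈ Q → Q = P := by
    intro t x ht1 ht hx1 hc P hxP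
    have hxp : ∀ {y : G} {Q : Sylow p G}, y ∈ Q → ∃ k, orderOf y = p ^ k := fun hy =>
      exists_orderOf_pow (Sylow.isPGroup' _) hy
    have huniq : ∀ y : G, y ≠ 1 → t * y = y * t → ∀ Q Q' : Sylow p G, y ∈ Q → y ∈ Q' → Q' = Q :=
      fun y hy1 hc Q Q' hQ hQ' =>
        (h.unique_sylow hy1 ht1 ht hc (fun T => hno T y (hxp hQ) hy1) Q hQ).2 Q' hQ'
    obtain ⟨T, hT⟩ := h.exists_sylow_mem ht
    obtain ⟨W, hWp, hWC, hWN, hWmem, -⟩ := h.involution_centralizer ht1 T hT
    have hxW : x ∈ W := hWmem x (Subgroup.mem_centralizer_singleton_iff.mpr hc.symm) (hxp hxP)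
    obtain ⟨P', hWP'⟩ := hWp.exists_le_sylow
    obtain rfl : P' = P := huniq x hx1 hc P P' hxP (hWP' hxW)
    refine ⟨fun g hg => ?_, fun y hy1 hcy Q hyQ => ?_⟩
    · refine Sylow.smul_eq_iff_mem_normalizer.mp ?_
      have hgx : g * x * g⁻¹ ∈ W := (Subgroup.mem_normalizer_iff.mp (hWN hg) x).mp hxW
      refine huniq _ (fun e => hx1 (conj_eq_one_iff.mp e)) ?_ P' _ (hWP' hgx)
        ((mem_smul_sylow P' g _).mpr ?_)
      · exact (Subgroup.mem_centralizer_singleton_iff.mp (hWC hgx)).symm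
      · rw [show g⁻¹ * (g * x * g⁻¹) * g = x by group]
        exact hxP
    · exact huniq y hy1 hcy P' Q
        (hWP' (hWmem y (Subgroup.mem_centralizer_singleton_iff.mpr hcy.symm) (hxp hyQ))) hyQ
  obtain ⟨P, hP⟩ := (isPGroup_zpowers hx₀).exists_le_sylow
  have hxP : x₀ ∈ P := hP (mem_zpowers x₀)
  obtain ⟨T, htT⟩ := h.exists_sylow_mem ht₀
  obtain ⟨hCN, huniq₀⟩ := key t₀ x₀ ht₀1 ht₀ hx₀1 hc₀ P hxP
  have hTN : (T : Subgroup G) ≤ normalizer ((P : Subgroup G) : Set G) :=
    (h.mem_centralizer_of_mem T htT).trans hCN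
  -- the other involutions of `T` invert `P`
  have hinv : ∀ v ∈ T, v ≠ 1 → v ≠ t₀ → ∀ a ∈ P, v * a * v = a⁻¹ := by
    intro v hvT hv1 hvt a ha
    have hv := h.sq T v hvT
    have hvi : v⁻¹ = v := inv_eq_of_mul_eq_one_right hv
    have hva : v * a * v ∈ (P : Subgroup G) := by
      have := (Subgroup.mem_normalizer_iff.mp (hTN hvT) a).mp ha
      rwa [hvi] at this
    by_contra hne
    have hb1 : a * (v * a * v) ≠ 1 := fun e => hne (inv_eq_of_mul_eq_one_right e).symm
    have hbP : a * (v * a * v) ∈ P := mul_mem ha hva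
    have hbc : v * (a * (v * a * v)) = a * (v * a * v) * v :=
      fixed_mul_conj hv (h.comm P P.isPGroup' _ ha _ hva)
    obtain ⟨-, huv⟩ := key v _ hv1 hv hb1 hbc P hbP
    -- translate by an element moving `T`
    obtain ⟨m, hm, hmN, u, hu, hmu⟩ := h.moves T
    obtain ⟨i, hi⟩ : ∃ i : ℤ, m ^ i * t₀ * (m ^ i)⁻¹ = v := by
      rcases h.act hm T.isPGroup' hmN with hc | ⟨-, hc⟩
      · exact absurd (hc u hu) hmu
      · exact (hc t₀ htT ht₀1).2 v hvT hv1
    set g := m ^ i with hg
    have hvy : v * (g * x₀ * g⁻¹) = g * x₀ * g⁻¹ * v := by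
      rw [← hi]
      calc g * t₀ * g⁻¹ * (g * x₀ * g⁻¹) = g * (t₀ * x₀) * g⁻¹ := by group
        _ = g * (x₀ * t₀) * g⁻¹ := by rw [hc₀]
        _ = _ := by group
    have hgP : g • P = P := huv _ (fun e => hx₀1 (conj_eq_one_iff.mp e)) hvy _
      ((mem_smul_sylow P g _).mpr (by rw [show g⁻¹ * (g * x₀ * g⁻¹) * g = x₀ by group]; exact hxP))
    have hgp : ∃ k, orderOf g = p ^ k := by
      obtain ⟨k, hk⟩ := hm
      have hd : orderOf g ∣ p ^ k := hk ▸ orderOf_dvd_of_mem_zpowers (zpow_mem (mem_zpowers m) i)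
      obtain ⟨j, -, hj⟩ := (Nat.dvd_prime_pow h.prime).mp hd
      exact ⟨j, hj⟩
    have hgmem : g ∈ P :=
      mem_sylow_of_mem_normalizer P hgp (Sylow.smul_eq_iff_mem_normalizer.mp hgP)
    have hgt := h.commute_of_normalizes T P hgmem htT (zpow_mem hmN i) (hTN htT)
    exact hvt (by rw [← hi, hgt, mul_inv_cancel_right])
  have hT4 : Nat.card T = 4 ∧ ∃ v ∈ T, v ≠ 1 ∧ v ≠ t₀ := by
    have hTcard := h.card_two T
    have hn := h.two_le
    have h4 : 4 ≤ Nat.card T := hTcard ▸ (show 2 ^ 2 ≤ 2 ^ n from Nat.pow_le_pow_right two_pos hn)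
    have hncard : ((T : Subgroup G) : Set G).ncard = Nat.card T := (Nat.card_coe_set_eq _).symm
    have hex : ∀ s : Set G, s.ncard < Nat.card T → ∃ v ∈ T, v ∉ s := fun s hs => by
      by_contra hh
      push Not at hh
      have := Set.ncard_le_ncard (show ((T : Subgroup G) : Set G) ⊆ s from hh) (Set.toFinite s)
      omega
    obtain ⟨v, hvT, hv⟩ := hex {1, t₀} (by
      have := Set.ncard_insert_le (1 : G) {t₀}
      rw [Set.ncard_singleton] at this
      omega)
    simp only [Set.mem_insert_iff, Set.mem_singleton_iff, not_or] at hv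
    refine ⟨?_, v, hvT, hv.1, hv.2⟩
    by_contra hne4
    have h8 : 5 ≤ Nat.card T := by omega
    obtain ⟨v', hv'T, hv'⟩ := hex {1, t₀, v, v * t₀} (by
      have h1 := Set.ncard_insert_le (1 : G) {t₀, v, v * t₀}
      have h2 := Set.ncard_insert_le t₀ ({v, v * t₀} : Set G)
      have h3 := Set.ncard_insert_le v ({v * t₀} : Set G)
      rw [Set.ncard_singleton] at h3
      omega)
    simp only [Set.mem_insert_iff, Set.mem_singleton_iff, not_or] at hv'
    have hvi : v⁻¹ = v := inv_eq_of_mul_eq_one_right (h.sq T v hvT)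
    have hne1 : v * v' ≠ 1 := fun e => hv'.2.2.1 (by rw [← inv_eq_of_mul_eq_one_right e, hvi])
    have hne2 : v * v' ≠ t₀ := fun e => hv'.2.2.2 (by
      rw [← e, ← mul_assoc, h.sq T v hvT, one_mul])
    have e := hinv (v * v') (mul_mem hvT hv'T) hne1 hne2 x₀ hxP
    have e1 := hinv v' hv'T hv'.1 hv'.2.1 x₀ hxP
    have e2 := hinv v hvT hv.1 hv.2 x₀⁻¹ (inv_mem hxP)
    rw [inv_inv] at e2
    have hcm := comm_of_sq (h.sq T) hvT hv'T
    have : v * v' * x₀ * (v * v') = x₀ := by
      calc v * v' * x₀ * (v * v') = v * v' * x₀ * (v' * v) := by rw [hcm]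
        _ = v * (v' * x₀ * v') * v := by group
        _ = x₀ := by rw [e1, e2]
    exact hx₀1 (eq_one_of_inv_eq h.prime h.ne_two hx₀ (e.symm.trans this))
  obtain ⟨hT4, v, hvT, hv1, hvt⟩ := hT4
  have hp3 : p = 3 := by
    have := h.pow_eq
    have := h.card_two T
    omega
  have hvt' : v * t₀ ≠ 1 ∧ v * t₀ ≠ t₀ :=
    ⟨fun e => hvt (by rw [eq_inv_of_mul_eq_one_left e, inv_eq_of_mul_eq_one_right ht₀]),
      fun e => hv1 (mul_eq_right.mp e)⟩
  have hvP := hinv v hvT hv1 hvt
  have htcomm : ∀ a ∈ P, t₀ * a = a * t₀ := by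
    intro a ha
    have e1 := hinv (v * t₀) (mul_mem hvT htT) hvt'.1 hvt'.2 a ha
    have e2 := hvP a⁻¹ (inv_mem ha)
    rw [inv_inv] at e2
    have hvv := h.sq T v hvT
    have hvtc := comm_of_sq (h.sq T) hvT htT
    have : t₀ * a * t₀ = a := by
      calc t₀ * a * t₀ = (v * v) * t₀ * a * (t₀ * (v * v)) := by rw [hvv, one_mul, mul_one]
        _ = v * (v * t₀ * a * (t₀ * v)) * v := by group
        _ = v * (v * t₀ * a * (v * t₀)) * v := by rw [hvtc]
        _ = a := by rw [e1, e2]
    calc t₀ * a = t₀ * a * (t₀ * t₀) := by rw [ht₀, mul_one]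
      _ = a * t₀ := by rw [← mul_assoc, this]
  set C := centralizer ({t₀} : Set G) with hC
  set N := normalizer ((P : Subgroup G) : Set G) with hN
  have hTC : (T : Subgroup G) ≤ C := h.mem_centralizer_of_mem T htT
  have hPC : (P : Subgroup G) ≤ C := fun a ha =>
    Subgroup.mem_centralizer_singleton_iff.mpr (htcomm a ha).symm
  obtain ⟨hNtop, -⟩ := h.primes_normalizer P ht₀1 ht₀ (hTN htT)
  have hNC : C = N := h.eq_of_contains hCN hNtop T P hTC hPC
  have hNcard : Nat.card N = 4 * Nat.card P := Nat.dvd_antisymm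
    (hT4 ▸ h.card_dvd hNtop (two_dvd_card ht₀1 ht₀ (hTN htT)) T P)
    (hT4 ▸ h.card_mul_dvd T P hTN le_normalizer)
  set D := centralizer ((P : Subgroup G) : Set G) with hD
  have htD : t₀ ∈ D := Subgroup.mem_centralizer_iff.mpr fun a ha => (htcomm a ha).symm
  have hPD : (P : Subgroup G) ≤ D := fun a ha =>
    Subgroup.mem_centralizer_iff.mpr fun b hb => h.comm P P.isPGroup' b hb a ha
  have hDN : D ≤ N := centralizer_le_normalizer _
  have hvD : v ∉ D := by
    intro hvD
    have e := hvP x₀ hxP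
    rw [← Subgroup.mem_centralizer_iff.mp hvD x₀ hxP, mul_assoc, h.sq T v hvT, mul_one] at e
    exact hx₀1 (eq_one_of_inv_eq h.prime h.ne_two hx₀ e.symm)
  have hDcard : Nat.card D = 2 * Nat.card P := by
    have hcop : Nat.Coprime 2 (Nat.card (P : Subgroup G)) := by
      obtain ⟨k, hk⟩ := IsPGroup.iff_card.mp P.isPGroup'
      rw [hk]
      exact ((Nat.coprime_primes Nat.prime_two h.prime).mpr h.ne_two.symm).pow_right k
    obtain ⟨j, hj⟩ := hcop.mul_dvd_of_dvd_of_dvd (two_dvd_card ht₀1 ht₀ htD) (card_dvd_of_le hPD)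
    have hdvd : Nat.card D ∣ 4 * Nat.card P := hNcard ▸ card_dvd_of_le hDN
    rw [hj, show 4 * Nat.card P = 2 * Nat.card P * 2 by ring] at hdvd
    have h2w : 0 < 2 * Nat.card P := Nat.mul_pos two_pos Nat.card_pos
    have hj2 : j ∣ 2 := Nat.dvd_of_mul_dvd_mul_left h2w hdvd
    rcases (Nat.dvd_prime Nat.prime_two).mp hj2 with rfl | rfl
    · rw [hj, mul_one]
    · refine absurd ?_ hvD
      have : D = N := Subgroup.eq_of_le_of_card_ge hDN (by rw [hNcard, hj]; omega)
      exact this.symm ▸ hTN hvT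
  have hTI : Cfsg.IsTISubset (D : Set G) := by
    intro g hg c hc hgc
    by_contra hc1
    refine hg ?_
    suffices hgN : g ∈ N by
      have hgNi : g⁻¹ ∈ N := inv_mem hgN
      have hmap : ∀ k ∈ N, ∀ b ∈ D, k * b * k⁻¹ ∈ D := by
        intro k hk b hb
        rw [hD, Subgroup.mem_centralizer_iff]
        intro a ha
        have ha' : k⁻¹ * a * k ∈ (P : Subgroup G) := by
          have := (Subgroup.mem_normalizer_iff.mp (inv_mem hk) a).mp ha
          rwa [inv_inv] at this
        have e := Subgroup.mem_centralizer_iff.mp hb _ ha'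
        calc a * (k * b * k⁻¹) = k * (k⁻¹ * a * k * b) * k⁻¹ := by group
          _ = k * (b * (k⁻¹ * a * k)) * k⁻¹ := by rw [e]
          _ = _ := by group
      rw [Subgroup.mem_normalizer_iff]
      intro b
      refine ⟨hmap g hgN b, fun hb => ?_⟩
      have := hmap _ hgNi _ hb
      simpa [mul_assoc] using this
    obtain ⟨s, hs, hsd⟩ := Nat.exists_prime_and_dvd (mt orderOf_eq_one_iff.mp hc1)
    set c' := c ^ (orderOf c / s) with hc'
    have hc'o : orderOf c' = s := by
      rw [hc', orderOf_pow_of_dvd (Nat.div_pos (Nat.le_of_dvd (orderOf_pos c) hsd) hs.pos).ne'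
        (Nat.div_dvd_of_dvd hsd), Nat.div_div_self hsd (orderOf_pos c).ne']
    have hc'D : c' ∈ D := pow_mem hc _
    have hgc' : g * c' * g⁻¹ ∈ D := by
      rw [hc', ← conj_pow]
      exact pow_mem hgc _
    have hc'1 : c' ≠ 1 := fun e => hs.ne_one (by rw [← hc'o, e, orderOf_one])
    have hDcomm : ∀ d ∈ D, d * t₀ = t₀ * d := fun d hd =>
      Subgroup.mem_centralizer_singleton_iff.mp (hNC.symm ▸ hDN hd : d ∈ C)
    have hsD : s ∣ Nat.card D := hc'o ▸ D.orderOf_dvd_natCard hc'D
    by_cases hs2 : s = 2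
    · -- the only involution of `D` is `t₀`
      have honly : ∀ d ∈ D, d ≠ 1 → d * d = 1 → d = t₀ := by
        intro d hd hd1 hd2
        obtain ⟨T₁, hdT₁, htT₁⟩ := h.exists_sylow_pair hd2 ht₀ (hDcomm d hd)
        by_contra hdt
        have hdx : d * x₀ = x₀ * d := (Subgroup.mem_centralizer_iff.mp hd x₀ hxP).symm
        obtain ⟨-, hu⟩ := key t₀ x₀ ht₀1 ht₀ hx₀1 hc₀ P hxP
        -- `d * t₀` and `d` both centralise `P`; translate `t₀` to `d` inside `T₁`
        obtain ⟨m, hm, hmN, u, hu', hmu⟩ := h.moves T₁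
        obtain ⟨i, hi⟩ : ∃ i : ℤ, m ^ i * t₀ * (m ^ i)⁻¹ = d := by
          rcases h.act hm T₁.isPGroup' hmN with hcm | ⟨-, hcm⟩
          · exact absurd (hcm u hu') hmu
          · exact (hcm t₀ htT₁ ht₀1).2 d hdT₁ hd1
        obtain ⟨hCd, hud⟩ := key d x₀ hd1 hd2 hx₀1 hdx P hxP
        set k := m ^ i with hk
        have hdy : d * (k * x₀ * k⁻¹) = k * x₀ * k⁻¹ * d := by
          rw [← hi]
          calc k * t₀ * k⁻¹ * (k * x₀ * k⁻¹) = k * (t₀ * x₀) * k⁻¹ := by group
            _ = k * (x₀ * t₀) * k⁻¹ := by rw [hc₀]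
            _ = _ := by group
        have hkP : k • P = P := hud _ (fun e => hx₀1 (conj_eq_one_iff.mp e)) hdy _
          ((mem_smul_sylow P k _).mpr
            (by rw [show k⁻¹ * (k * x₀ * k⁻¹) * k = x₀ by group]; exact hxP))
        have hkp : ∃ j, orderOf k = p ^ j := by
          obtain ⟨j, hj⟩ := hm
          have hd' : orderOf k ∣ p ^ j :=
            hj ▸ orderOf_dvd_of_mem_zpowers (zpow_mem (mem_zpowers m) i)
          obtain ⟨l, -, hl⟩ := (Nat.dvd_prime_pow h.prime).mp hd'
          exact ⟨l, hl⟩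
        have hkmem : k ∈ P :=
          mem_sylow_of_mem_normalizer P hkp (Sylow.smul_eq_iff_mem_normalizer.mp hkP)
        have hkt := h.commute_of_normalizes T₁ P hkmem htT₁ (zpow_mem hmN i) (hTN htT)
        exact hdt (by rw [← hi, hkt, mul_inv_cancel_right])
      have hsq : c' * c' = 1 := by rw [← pow_two, ← hs2, ← hc'o, pow_orderOf_eq_one]
      have e1 := honly c' hc'D hc'1 hsq
      have e2 := honly _ hgc' (fun e => hc'1 (conj_eq_one_iff.mp e))
        (by
          calc g * c' * g⁻¹ * (g * c' * g⁻¹) = g * (c' * c') * g⁻¹ := by group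
            _ = 1 := by rw [hsq, mul_one, mul_inv_cancel])
      rw [e1, mul_inv_eq_iff_eq_mul] at e2
      rw [← hNC]
      exact Subgroup.mem_centralizer_singleton_iff.mpr e2
    · have hsp : s = p := by
        rcases (Nat.Prime.dvd_mul hs).mp (hDcard ▸ hsD) with hd | hd
        · exact absurd ((Nat.prime_dvd_prime_iff_eq hs Nat.prime_two).mp hd) hs2
        · obtain ⟨k, hk⟩ := IsPGroup.iff_card.mp P.isPGroup'
          exact (Nat.prime_dvd_prime_iff_eq hs h.prime).mp (hs.dvd_of_dvd_pow (hk ▸ hd))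
      have hpow : ∃ k, orderOf c' = p ^ k := ⟨1, by rw [pow_one, hc'o, hsp]⟩
      have hc'P : c' ∈ P := mem_sylow_of_mem_normalizer P hpow (hDN hc'D)
      have hgc'P : g * c' * g⁻¹ ∈ P :=
        mem_sylow_of_mem_normalizer P (conj_pow_elt hpow) (hDN hgc')
      refine Sylow.smul_eq_iff_mem_normalizer.mp ?_
      obtain ⟨-, hu⟩ := key t₀ (g * c' * g⁻¹) ht₀1 ht₀ (fun e => hc'1 (conj_eq_one_iff.mp e))
        (hDcomm _ hgc').symm P hgc'P
      exact hu _ (fun e => hc'1 (conj_eq_one_iff.mp e)) (hDcomm _ hgc').symm _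
        ((mem_smul_sylow P g _).mpr (by rw [show g⁻¹ * (g * c' * g⁻¹) * g = c' by group]; exact hc'P))
  subst hp3
  haveI : IsMulCommutative (P : Subgroup G) :=
    ⟨⟨fun a b => Subtype.ext (h.comm P P.isPGroup' _ a.2 _ b.2)⟩⟩
  exact Cfsg.Agent.S4018.result P inferInstance hNcard hDcard hTI
    (fun H hH h2 => hT4 ▸ h.card_dvd hH h2 T P) h.simple

end Exceptional

end CfsgLib.MixedTwoPrime
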